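import Groth.Agent.AlgSp.K646.AcycX
import Groth.Agent.AlgSp.K644.Ses
import Groth.Agent.PerfA.PCMap
import Groth.Prelude.Def_AlgSpPerf

/-!
# Cohomology sheaves of (pseudo-coherent) complexes on the small etale site are quasi-coherent
-/

set_option autoImplicit false

universe w v d u

open CategoryTheory CategoryTheory.Limits AlgebraicGeometry Opposite

set_option backward.isDefEq.respectTransparency false

namespace K294.PcQC

open Groth.Agent.Etbase.FFExact K644.Site K644.Psh K644.Alg K644.Colim K644.Exact K644.Free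
  K644.Slice K644.Pres K644.Local K644.QCoh

section gen

variable {D : Type d} [Category.{v} D] {J : GrothendieckTopology D} {T : D ⥤ Scheme.{u}}
  {R : Sheaf J RingCat.{u + 1}} [Str T R.obj]
  [HasSheafify J AddCommGrpCat.{u + 1}] [J.WEqualsLocallyBijective AddCommGrpCat.{u + 1}]

omit [HasSheafify J AddCommGrpCat.{u + 1}] [J.WEqualsLocallyBijective AddCommGrpCat.{u + 1}] in
/-- Retracts of modules cartesian on affine objects. -/
theorem isQC_retract [FlatMaps T] {M F : SheafOfModules.{u + 1} R} (i : M ⟶ F) (p : F ⟶ M)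
    (h : i ≫ p = 𝟙 M) (hF : IsQC T F.val) : IsQC T M.val := by
  have w : i ≫ (𝟙 F - p ≫ i) = 0 := by
    rw [Preadditive.comp_sub, Category.comp_id, reassoc_of% h, sub_self]
  have hk : IsLimit (KernelFork.ofι i w) := KernelFork.IsLimit.ofι i w
    (fun k _ => k ≫ p)
    (fun k hk => by
      rw [Preadditive.comp_sub, Category.comp_id, sub_eq_zero] at hk
      rw [Category.assoc, ← hk])
    (fun k _ m hm => by rw [← hm, Category.assoc, h, Category.comp_id])
  exact isQC_kernel hF hF i _ w hk

variable [HasPullbacks D] [PreservesLimitsOfShape WalkingCospan T] [QCSite J T]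

/-- The homology of a short complex of modules cartesian on affine objects. -/
theorem isQC_homology [FlatMaps T] (S : ShortComplex (SheafOfModules.{u + 1} R))
    (h1 : IsQC T S.X₁.val) (h2 : IsQC T S.X₂.val) (h3 : IsQC T S.X₃.val) :
    IsQC T S.homology.val :=
  isQC_cokernel h1 (isQC_kernel h2 h3 S.iCycles S.g S.iCycles_g S.cyclesIsKernel)
    S.toCycles S.homologyπ S.toCycles_comp_homologyπ S.homologyIsCokernel

omit [HasSheafify J AddCommGrpCat.{u + 1}] [J.WEqualsLocallyBijective AddCommGrpCat.{u + 1}]
  [HasPullbacks D] [PreservesLimitsOfShape WalkingCospan T] [QCSite J T] in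
theorem isQC_of_iso {M N : SheafOfModules.{u + 1} R} (e : M ≅ N)
    (h : IsQC T M.val) : IsQC T N.val := by
  refine IsQC.of_bijective (Q := N.val) ((SheafOfModules.forget R).map e.hom) (fun U _ => ?_) h
  have hi : IsIso ((SheafOfModules.evaluation R (op U)).map e.hom) := inferInstance
  exact ConcreteCategory.bijective_of_isIso ((SheafOfModules.evaluation R (op U)).map e.hom)

end gen

open AlgSp K644.EtSite

attribute [local instance] HasDerivedCategory.standard

variable {S : Scheme.{u}} {X : Sp S}

/-- Summands of finite free modules on a slice are quasi-coherent. -/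
theorem isQC_of_isFinFreeSummandMod {V : EtOver X} {M : ModEtOn V}
    (h : DCoh.IsFinFreeSummandMod (OEtOn V) M) : IsQC (oT (EtOver.toScheme X) V) M.val := by
  obtain ⟨n, i, p, hip⟩ := h
  exact isQC_retract i p hip (isQC_free (T := oT (EtOver.toScheme X) V) _)

/-- The cohomology of a strictly perfect complex on a slice is quasi-coherent. -/
theorem isQuasicoherent_HDMod_of_isStrictlyPerfectMod {V : EtOver X} {E : CochainComplex (ModEtOn V) ℤ}
    (h : DCoh.IsStrictlyPerfectMod (OEtOn V) E) : DCoh.IsQCohDMod (OEtOn V) (DCoh.toDMod (OEtOn V) E) := by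
  intro i
  have h1 : IsQC (oT (EtOver.toScheme X) V) ((E.sc i).homology).val :=
    isQC_homology _ (isQC_of_isFinFreeSummandMod (h.2 _)) (isQC_of_isFinFreeSummandMod (h.2 _))
      (isQC_of_isFinFreeSummandMod (h.2 _))
  exact isQuasicoherent_of_isQC (T := oT (EtOver.toScheme X) V)
    (isQC_of_iso ((DerivedCategory.homologyFunctorFactors (ModEtOn V) i).app E).symm h1)

/-- Quasi-coherence is local on the site. -/
theorem isQuasicoherent_of_locallyEt {M : ModEt X}
    (h : ∀ U : EtOver X, IsAffine (sch U) → LocallyEt (fun V => (M.over V).IsQuasicoherent) U) :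
    M.IsQuasicoherent := by
  refine isQuasicoherent_of_isQC (T := EtOver.toScheme X) (isQC_of_local M fun U hU S hS => ?_)
  obtain ⟨ι, V, g, hg, hV⟩ := h U hU
  have h1 : ∀ i, CartOver (EtOver.toScheme X) M (V i) := fun i => by
    have := hV i
    exact cartOver_of_over (isQC_of_isQuasicoherent (T := oT (EtOver.toScheme X) (V i)) (M.over (V i)))
  have h2 : Sieve.generate (Presieve.ofArrows V g) ∈ etTop X U := Precoverage.generate_mem_toGrothendieck hg
  refine (etTop X).superset_covering ?_ h2
  rintro Z f ⟨_, a, _, ⟨i⟩, rfl⟩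
  exact S.downward_closed (hS (V i) (g i) (h1 i)) a

end K294.PcQC
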