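import Groth.Agent.AlgSp.K294.PcQC
import Groth.Agent.AlgSp.K644.CohAff
import Groth.Agent.PerfA.CohomIn

/-!
# Quasi-coherent modules form a weak Serre subcategory, on `X` and on slices
-/

set_option autoImplicit false

universe w v d u

open CategoryTheory CategoryTheory.Limits AlgebraicGeometry Opposite

set_option backward.isDefEq.respectTransparency false
set_option linter.unusedSectionVars false

namespace K294.QcSerre

open Groth.Agent.Etbase.FFExact K644.Site K644.Psh K644.Alg K644.Colim K644.Exact K644.Free
  K644.Slice K644.Pres K644.Local K644.QCoh K644.Cartan K644.Ses K294.PcQC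

theorem decSite_over {D : Type d} [Category.{v} D] {J : GrothendieckTopology D} {T : D ⥤ Scheme.{u}}
    [DecSite J T] (E : D) : DecSite (J.over E) (oT T E) where
  mono hs i := by
    have := DecSite.mono ((decomp_over _ _).1 hs) i
    exact Over.mono_of_mono_left _
  empty Z hZ := by
    rw [mem_over_iff]
    have h := DecSite.empty (J := J) (T := T) Z.left hZ
    refine J.superset_covering ?_ h
    rintro W f hf
    exact hf.elim

section gen

variable {D : Type d} [Category.{u} D] {J : GrothendieckTopology D} {T : D ⥤ Scheme.{u}}
  {R : Sheaf J RingCat.{u + 1}} [Str T R.obj]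

variable (T R) in
/-- Modules cartesian on affine objects. -/
def QC : ObjectProperty (SheafOfModules.{u + 1} R) := fun M => IsQC T M.val

theorem isClosedUnderIsomorphisms_QC : (QC T R).IsClosedUnderIsomorphisms where
  of_iso e h := isQC_of_iso e h

variable [HasSheafify J AddCommGrpCat.{u + 1}] [J.WEqualsLocallyBijective AddCommGrpCat.{u + 1}]

theorem isQC_of_isZero {M : SheafOfModules.{u + 1} R} (h : IsZero M) : IsQC T M.val := by
  intro V U g hV hU
  have hz : ∀ W : D, Subsingleton (M.val.presheaf.obj (op W)) := fun W => by
    refine ⟨fun a b => ?_⟩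
    have h0 : 𝟙 M = 0 := h.eq_of_src _ _
    have h1 : ∀ s : M.val.presheaf.obj (op W), s = 0 := fun s =>
      congrArg (fun k : M ⟶ M => k.val.app (op W) s) h0
    rw [h1 a, h1 b]
  have := hz V
  have := hz U
  exact K646.AcycX.isBC_of_subsingleton _ _

theorem containsZero_QC : (QC T R).ContainsZero :=
  ⟨_, isZero_zero _, isQC_of_isZero (isZero_zero _)⟩

variable [HasPullbacks D] [PreservesLimitsOfShape WalkingCospan T] [QCSite J T] [FlatMaps T]

omit [HasPullbacks D] [PreservesLimitsOfShape WalkingCospan T] [QCSite J T] in
theorem isClosedUnderKernels_QC : (QC T R).IsClosedUnderKernels where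
  kernels_le := by
    rintro M ⟨f, k, hk, h⟩
    exact isQC_kernel h.1 h.2 k.ι f k.condition
      (IsLimit.ofIsoLimit hk (Fork.ext (Iso.refl _) (by simp)))

omit [FlatMaps T] in
theorem isClosedUnderCokernels_QC : (QC T R).IsClosedUnderCokernels where
  cokernels_le := by
    rintro M ⟨f, k, hk, h⟩
    exact isQC_cokernel h.1 h.2 f k.π k.condition
      (IsColimit.ofIsoColimit hk (Cofork.ext (Iso.refl _) (by simp)))

theorem isClosedUnderExtensions_QC [DecSite J T] : (QC T R).IsClosedUnderExtensions where
  prop_X₂_of_shortExact hS h₁ h₃ := isQC_X₂ hS h₁ h₃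

end gen

open AlgSp K644.EtSite

variable {S : Scheme.{u}} (X : Sp S)

/-- Quasi-coherent modules on the small etale site. -/
def qc : ObjectProperty (ModEt X) := fun M => M.IsQuasicoherent

theorem qc_eq : qc X = QC (EtOver.toScheme X) (OEtRing X) := by
  ext M
  exact isQuasicoherent_iff (EtOver.toScheme X) M

instance : (qc X).IsClosedUnderIsomorphisms := by
  rw [qc_eq]; exact isClosedUnderIsomorphisms_QC

instance : (qc X).ContainsZero := by
  rw [qc_eq]; exact containsZero_QC

instance : (qc X).IsClosedUnderKernels := by
  rw [qc_eq]; exact isClosedUnderKernels_QC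

instance : (qc X).IsClosedUnderCokernels := by
  rw [qc_eq]; exact isClosedUnderCokernels_QC

instance : (qc X).IsClosedUnderExtensions := by
  rw [qc_eq]; exact isClosedUnderExtensions_QC

variable {X} (E : EtOver X)

/-- Quasi-coherent modules on a slice. -/
def qcOn : ObjectProperty (ModEtOn E) := fun M => M.IsQuasicoherent

theorem qcOn_eq : qcOn E = QC (oT (EtOver.toScheme X) E) (OEtOn E) := by
  ext M
  exact isQuasicoherent_iff (oT (EtOver.toScheme X) E) M

instance : (qcOn E).IsClosedUnderIsomorphisms := by
  rw [qcOn_eq]; exact isClosedUnderIsomorphisms_QC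

instance : (qcOn E).ContainsZero := by
  rw [qcOn_eq]; exact containsZero_QC

instance : (qcOn E).IsClosedUnderKernels := by
  rw [qcOn_eq]; exact isClosedUnderKernels_QC

instance : (qcOn E).IsClosedUnderCokernels := by
  rw [qcOn_eq]; exact isClosedUnderCokernels_QC

instance : (qcOn E).IsClosedUnderExtensions := by
  have := decSite_over (J := etTop X) (T := EtOver.toScheme X) E
  rw [qcOn_eq]; exact isClosedUnderExtensions_QC

attribute [local instance] HasDerivedCategory.standard

/-- `D_QCoh` is a triangulated subcategory. -/
theorem isTriangulated_isQCohDMod : (Groth.Agent.PerfA.CohomIn.coh (qc X)).IsTriangulated := inferInstance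

theorem isTriangulated_isQCohDModOn : (Groth.Agent.PerfA.CohomIn.coh (qcOn E)).IsTriangulated := inferInstance

end K294.QcSerre
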