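import Groth.Agent.AlgSp.K294.AppAbs
import Groth.Agent.PerfC.HomOne
import Groth.Agent.PerfA.RingKill
import Groth.Agent.DRing.K229.PerfInd
import Groth.Agent.DRing.K226.PCRing

/-!
# Approximation by perfect torsion complexes over a ring
-/

set_option autoImplicit false

universe u

open CategoryTheory CategoryTheory.Limits Pretriangulated

attribute [local instance] HasDerivedCategory.standard

namespace K294.AppRing

open K294.AppAbs Groth.Agent.PerfC Groth.Agent.PerfC.KosFactor Groth.Agent.CalgB.PsCoh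
  Groth.Agent.CalgB.PsCohGen K229.PerfInd

variable {A : Type u} [CommRing A]

/-- Perfect objects whose cohomology is torsion with respect to the elements of `l`. -/
def PT (l : List A) : ObjectProperty (Dual.D A) := fun K =>
  DRing.IsPerfect A K ∧ ∀ f ∈ l, ∀ i : ℤ, Tors f K i

instance (l : List A) : (PT l).IsClosedUnderIsomorphisms where
  of_iso e h := ⟨(perf A).prop_of_iso e h.1, fun f hf i =>
    tors_of_iso ((DerivedCategory.homologyFunctor _ i).mapIso e) (h.2 f hf i)⟩

open ZeroObject in
instance (l : List A) : (PT l).IsTriangulated where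
  exists_zero := ⟨0, isZero_zero _, (perf A).prop_of_isZero (isZero_zero _), fun f _ i =>
    tors_of_isZero ((DerivedCategory.homologyFunctor _ i).map_isZero (isZero_zero _))⟩
  isStableUnderShiftBy n := ⟨fun K hK => ⟨(perf A).le_shift n _ hK.1, fun f hf i =>
    (tors_shift_iff K n i (n + i) rfl).2 (hK.2 f hf _)⟩⟩
  ext₂' T hT h₁ h₃ := ObjectProperty.le_isoClosure _ _
    ⟨(perf A).ext_of_isTriangulatedClosed₂ _ hT h₁.1 h₃.1, fun f hf i =>
      tors_obj₂ T hT i (h₁.2 f hf i) (h₃.2 f hf i)⟩

theorem isPerfect_one : DRing.IsPerfect A (one A) :=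
  Groth.Agent.LoccohB.PerfTri.isPerfect_inD_of_projective (A := A) A

theorem isPerfect_of_isKos (l : List A) : ∀ K : Dual.D A, IsKos l K → DRing.IsPerfect A K := by
  induction l with
  | nil =>
    rintro K ⟨e⟩
    exact (perf A).prop_of_iso e.symm isPerfect_one
  | cons g l ih =>
    rintro K ⟨K', n, a, b, hK', hT⟩
    exact (perf A).ext_of_isTriangulatedClosed₃ _ hT (ih K' hK') (ih K' hK')

theorem pc_of_isPerfect {K : Dual.D A} (hK : DRing.IsPerfect A K) (m : ℤ) : DRing.IsPseudoCoherent A m K := by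
  obtain ⟨E, a, b, h1, h2, ⟨e⟩⟩ := hK
  exact (isPseudoCoherent_iff_fproj m K).2 ⟨E, a, b, e.hom, h1, h2, fun _ _ => inferInstance, inferInstance⟩

/-- Shifted form of the factorization through Koszul type objects. -/
lemma exists_factor_shift (l : List A) (M : Dual.D A) (t : ℤ)
    (h : ∀ f ∈ l, ∀ i : ℤ, t - (l.length : ℤ) < i → i ≤ t → Tors f M i)
    (x : (DerivedCategory.homologyFunctor (ModuleCat.{u} A) t).obj M) :
    ∃ (Q : Dual.D A) (b : Q ⟶ M) (y : (DerivedCategory.homologyFunctor (ModuleCat.{u} A) t).obj Q),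
      (DerivedCategory.homologyFunctor (ModuleCat.{u} A) t).map b y = x ∧ PT l Q ∧
      ∀ i : ℤ, t < i → IsZero ((DerivedCategory.homologyFunctor (ModuleCat.{u} A) i).obj Q) := by
  let x' := (HDshift M t 0 t (by simp)).inv x
  obtain ⟨φ, y', hy'⟩ := HomOne.exists_hom_zero (M⟦t⟧) x'
  obtain ⟨K, a, b', hK, rfl⟩ := exists_factor l (M⟦t⟧) (fun f hf i hi hi' =>
    (tors_shift_iff M t i (t + i) rfl).2 (h f hf (t + i) (by lia) (by lia))) φ
  let Q : Dual.D A := K⟦(-t)⟧
  let e : Q⟦t⟧ ≅ K := (shiftEquiv (Dual.D A) t).counitIso.app K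
  obtain ⟨b, hb⟩ := (shiftFunctor (Dual.D A) t).map_surjective (e.hom ≫ b')
  let H0 := DerivedCategory.homologyFunctor (ModuleCat.{u} A) 0
  let w' : H0.obj (Q⟦t⟧) := H0.map e.inv (H0.map a y')
  refine ⟨Q, b, (HDshift Q t 0 t (by simp)).hom w', ?_, ⟨?_, ?_⟩, ?_⟩
  · have h1 : H0.map (b⟦t⟧') w' = x' := by
      rw [← hy', hb]
      change (H0.map e.inv ≫ H0.map (e.hom ≫ b')) (H0.map a y') = H0.map (a ≫ b') y'
      rw [← Functor.map_comp, Iso.inv_hom_id_assoc, Functor.map_comp]
      rfl
    have h2 : (HDshift Q t 0 t (by simp)).hom ≫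
        (DerivedCategory.homologyFunctor (ModuleCat.{u} A) t).map b =
        H0.map (b⟦t⟧') ≫ (HDshift M t 0 t (by simp)).hom :=
      ((H0.shiftIso t 0 t (by simp)).hom.naturality b).symm
    have h3 := congrArg (fun ψ => ψ w') h2
    refine h3.trans ?_
    change (HDshift M t 0 t (by simp)).hom (H0.map (b⟦t⟧') w') = x
    rw [h1]
    change ((HDshift M t 0 t (by simp)).inv ≫ (HDshift M t 0 t (by simp)).hom) x = x
    rw [Iso.inv_hom_id]
    rfl
  · exact (perf A).le_shift (-t) _ (isPerfect_of_isKos l K hK)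
  · intro f hf i
    exact (tors_shift_iff K (-t) i (-t + i) rfl).2 (tors_of_isKos l K hK f hf _)
  · intro i hi
    exact (isZero_of_isKos l K hK (-t + i) (by lia)).of_iso (HDshift K (-t) i (-t + i) rfl)

theorem approx_aux (l : List A) (m : ℤ) (k : ℕ) : ∀ (M : Dual.D A), DRing.IsPseudoCoherent A m M →
    Lt (m + k) M → (∀ f ∈ l, ∀ i : ℤ, m - l.length + 1 ≤ i → Tors f M i) → App (PT l) M m := by
  induction k with
  | zero =>
    intro M _ h0 _
    exact app_of_lt (h0.mono (by simp))
  | succ k ih =>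
    have key : ∀ (N : ℕ) (M : Dual.D A), DRing.IsPseudoCoherent A m M → Lt (m + k + 1) M →
        (∀ f ∈ l, ∀ i : ℤ, m - l.length + 1 ≤ i → Tors f M i) →
        (∃ s : Fin N → (DerivedCategory.homologyFunctor (ModuleCat.{u} A) (m + k)).obj M,
          Submodule.span A (Set.range s) = ⊤) → App (PT l) M m := by
      intro N
      induction N with
      | zero =>
        rintro M hpc h0 ht ⟨s, hs⟩
        refine ih M hpc (fun i hi => ?_) ht
        rcases hi.eq_or_lt with rfl | hi
        · refine @ModuleCat.isZero_of_subsingleton _ _ _ ?_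
          rw [Set.range_eq_empty, Submodule.span_empty] at hs
          exact (Submodule.subsingleton_iff A).1 (subsingleton_iff_bot_eq_top.1 hs)
        · exact h0 i (by lia)
      | succ N ihN =>
        rintro M hpc h0 ht ⟨s, hs⟩
        obtain ⟨Q, b, y, hy, ⟨hQ, hQt⟩, hQ0⟩ := exists_factor_shift l M (m + k)
          (fun f hf i hi _ => ht f hf i (by lia)) (s 0)
        obtain ⟨M', g, h, hT⟩ := distinguished_cocone_triangle b
        refine App.of_cone hT ⟨hQ, hQt⟩ (ihN M' ?_ ?_ ?_ ?_)
        · exact PC.obj₃ (isProjClass_ffree A) hT (m := m) rfl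
            (pc_of_isPerfect hQ (m + 1)) hpc
        · exact Lt.obj₃ hT (fun i hi => hQ0 i (by lia)) h0
        · intro f hf i hi
          exact tors_obj₃ _ hT i (i + 1) rfl (ht f hf i hi) (hQt f hf _)
        · let Hk := DerivedCategory.homologyFunctor (ModuleCat.{u} A) (m + k)
          have hsurj : Function.Surjective (Hk.map g) := by
            refine (ModuleCat.epi_iff_surjective _).1 ?_
            exact (DerivedCategory.HomologySequence.epi_homologyMap_mor₂_iff _ hT (m + k)
              (m + k + 1) rfl).2 ((hQ0 _ (by lia)).eq_of_tgt _ _)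
          refine ⟨fun j => Hk.map g (s j.succ), ?_⟩
          have h1 : (Submodule.span A (Set.range s)).map (Hk.map g).hom = ⊤ := by
            rw [hs, Submodule.map_top, LinearMap.range_eq_top]
            exact hsurj
          rw [eq_top_iff, ← h1, Submodule.map_span, Submodule.span_le]
          rintro _ ⟨_, ⟨j, rfl⟩, rfl⟩
          refine Fin.cases ?_ (fun j => ?_) j
          · have h2 : Hk.map g (s 0) = 0 := by
              rw [← hy]
              change (Hk.map b ≫ Hk.map g) y = 0
              have h3 : b ≫ g = 0 := comp_distTriang_mor_zero₁₂ _ hT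
              rw [← Functor.map_comp, h3, Functor.map_zero]
              rfl
            change Hk.map g (s 0) ∈ _
            rw [h2]
            exact Submodule.zero_mem _
          · exact Submodule.subset_span ⟨j, rfl⟩
    intro M hpc h0 ht
    have hle : M.IsLE (m + k) := (isLE_iff_lt _ _).2 (h0.mono (by push_cast; lia))
    have hfin : Module.Finite A ((DerivedCategory.homologyFunctor (ModuleCat.{u} A) (m + k)).obj M) :=
      finite_homology_top (PC.mono (P := ffree A) (by lia) hpc) hle
    obtain ⟨N, s, hs⟩ := Module.Finite.exists_fin (R := A)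
      (M := (DerivedCategory.homologyFunctor (ModuleCat.{u} A) (m + k)).obj M)
    exact key N M hpc (h0.mono (by push_cast; lia)) ht ⟨s, hs⟩

/-- Approximation by perfect torsion complexes. -/
theorem approx (l : List A) (m : ℤ) (M : Dual.D A) (hM : DRing.IsPseudoCoherent A m M)
    (ht : ∀ f ∈ l, ∀ i : ℤ, m - l.length + 1 ≤ i → Tors f M i) : App (PT l) M m := by
  obtain ⟨b, hb⟩ := PC.exists_isLE (P := ffree A) hM
  exact approx_aux l m (b + 1 - m).toNat M hM (((isLE_iff_lt _ _).1 hb).mono (by lia)) ht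

/-- A morphism from a perfect object to a torsion object factors through a perfect torsion object. -/
theorem exists_factor_PT (l : List A) (P M : Dual.D A) (hP : DRing.IsPerfect A P)
    (hM : ∀ f ∈ l, ∀ i : ℤ, Tors f M i) (φ : P ⟶ M) :
    ∃ (Q : Dual.D A) (a : P ⟶ Q) (b : Q ⟶ M), PT l Q ∧ a ≫ b = φ := by
  obtain ⟨Q, a, b, hab, hQ, h𝒯⟩ := Groth.Agent.PerfA.RingKill.exists_factor_of_isPerfect l P M hP
    (fun f hf i x => hM f hf i x) φ
  exact ⟨Q, a, b, ⟨h𝒯 (perf A) inferInstance inferInstance hP, fun f hf i x =>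
    Groth.Agent.PerfA.RingKill.isTors_of_nilp (hQ f hf) i x⟩, hab⟩

end K294.AppRing
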