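import Groth.Agent.AlgSp.K645.Int
import Groth.Agent.PerfA.PCMap
import Groth.Agent.DRing.K226.PCHom

/-!
# Pseudo-coherent objects over affine objects of the small etale site
-/

set_option autoImplicit false

universe u

open CategoryTheory CategoryTheory.Limits AlgebraicGeometry Opposite

attribute [local instance] HasDerivedCategory.standard

namespace K294.PcInt

open K645.TE K645.BC K645.SPerf K645.Shriek K645.Int Groth.Agent.PerfA.PCMap

variable {S : Scheme.{u}} {X : AlgSp.Sp S}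

/-- `K` is approximated up to degree `m` by a strictly perfect complex over `V`. -/
def StrictAt (m : ℤ) (K : AlgSp.DModEt X) (V : AlgSp.EtOver X) : Prop :=
  ∃ (C : CochainComplex (AlgSp.ModEtOn V) ℤ) (α : DCoh.toDMod (AlgSp.OEtOn V) C ⟶ (AlgSp.resDEt V).obj K),
    DCoh.IsStrictlyPerfectMod (AlgSp.OEtOn V) C ∧ PCD m α

theorem StrictAt.of_hom {m : ℤ} {K : AlgSp.DModEt X} {V' V : AlgSp.EtOver X} (h : StrictAt m K V)
    (g : V' ⟶ V) : StrictAt m K V' := by
  obtain ⟨C, α, hC, hα⟩ := h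
  refine ⟨((gE g).mapHomologicalComplex _).obj C,
    ((gE g).mapDerivedCategoryFactors.app C).inv ≫ (gD g).map α ≫ ((rgD g).app K).hom, strict_gE g C hC, ?_⟩
  exact (PCD.map (gE g) hα).of_arrowIso
    (Arrow.isoMk ((gE g).mapDerivedCategoryFactors.app C) ((rgD g).app K) (by simp))

/-- The restriction of `K` to the affine object `E` is an `m`-pseudo-coherent complex of modules over the ring
of `E`. -/
def PcAt (m : ℤ) (K : AlgSp.DModEt X) (E : AlgSp.EtOver X) [IsAffine E.obj.left.left] : Prop :=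
  ∃ M : Dual.D (B E), DRing.IsPseudoCoherent (B E) m M ∧ Nonempty ((TD E).obj M ≅ (AlgSp.resDEt E).obj K)

open Groth.Agent.CalgB.PsCoh Groth.Agent.CalgB.PsCohGen

theorem strictAt_iff (m : ℤ) (K : AlgSp.DModEt X) (E : AlgSp.EtOver X) [IsAffine E.obj.left.left]
    (hK : DCoh.IsQCohDMod (AlgSp.OEtOn E) ((AlgSp.resDEt E).obj K)) :
    StrictAt m K E ↔ PcAt m K E := by
  constructor
  · rintro ⟨C, α, hC, hα⟩
    obtain ⟨P, ⟨⟨a, b, hP⟩, hP'⟩, ⟨i⟩⟩ := exists_of_strict E C hC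
    obtain ⟨M, ⟨e⟩⟩ := exists_TD_iso E _ hK
    obtain ⟨β, hβ⟩ := (TD E).map_surjective
      (((tE E).mapDerivedCategoryFactors.app P ≪≫ DerivedCategory.Q.mapIso i).hom ≫ α ≫ e.inv)
    have h1 : PCD m ((TD E).map β) := by
      rw [hβ]
      exact hα.of_arrowIso
        (Arrow.isoMk ((tE E).mapDerivedCategoryFactors.app P ≪≫ DerivedCategory.Q.mapIso i).symm e.symm (by simp))
    have h2 : PCD m β := h1.of_map
    exact ⟨M, (isPseudoCoherent_iff_fproj m M).2 ⟨P, a, b, β, hP, hP', h2.1, h2.2⟩, ⟨e⟩⟩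
  · rintro ⟨M, hM, ⟨e⟩⟩
    obtain ⟨P, a, b, β, hP, hP', h1, h2⟩ := (isPseudoCoherent_iff_fproj m M).1 hM
    have h3 : PCD m β := ⟨h1, h2⟩
    refine ⟨_, ((tE E).mapDerivedCategoryFactors.app P).inv ≫ (TD E).map β ≫ e.hom,
      strict_tE E P ⟨⟨a, b, hP⟩, hP'⟩, ?_⟩
    exact (PCD.map (tE E) h3).of_arrowIso
      (Arrow.isoMk ((tE E).mapDerivedCategoryFactors.app P) e (by simp))

section cover

variable {m : ℤ} {K : AlgSp.DModEt X} {E : AlgSp.EtOver X} [hE : IsAffine E.obj.left.left] {ι : Type u} [Finite ι]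
  {V : ι → AlgSp.EtOver X} [hV : ∀ i, IsAffine (V i).obj.left.left] (f : ∀ i, V i ⟶ E)
  (hf : ∀ x : ↥(K646.EtSite.sch E), ∃ i, x ∈ Set.range (K646.EtSite.mor (f i)))

include hE hV hf

theorem pcAt_of_cover (h : ∀ i, DCoh.IsQCohDMod (AlgSp.OEtOn (V i)) ((AlgSp.resDEt (V i)).obj K))
    (hK : ∀ i, PcAt m K (V i)) : PcAt m K E := by
  obtain ⟨M, hMe, hM⟩ := descend f hf h
  have hM' : ∀ i, DRing.IsPseudoCoherent (B (V i)) m ((eD (f i)).obj M) := fun i => by
    obtain ⟨N, hN, hN'⟩ := hK i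
    obtain ⟨e⟩ := hM i N hN'
    exact PC.of_iso (P := ffree (B (V i))) e.symm hN
  have hsp : ∀ p : PrimeSpectrum (B E), ∃ (j : ι) (q : PrimeSpectrum (B (V j))),
      PrimeSpectrum.comap (phi (f j)) q = p := fun p => exists_comap hE f hf p
  exact ⟨M, Groth.Agent.PerfB.DescRing.pc_descent_family (fun i => B (V i)) (fun i => phi (f i))
    (fun j => phi_flat (f j) (hV j) hE) hsp m M hM', hMe⟩

end cover

/-- Pseudo-coherent objects on affine objects. -/
theorem isPseudoCoherentEtDAt_iff (m : ℤ) (K : AlgSp.DModEt X) (E : AlgSp.EtOver X)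
    [hE : IsAffine E.obj.left.left] (hK : DCoh.IsQCohDMod (AlgSp.OEtOn E) ((AlgSp.resDEt E).obj K)) :
    AlgSp.IsPseudoCoherentEtDAt m K E ↔ PcAt m K E := by
  constructor
  · rintro ⟨ι, V, g, hg, hV⟩
    have : CompactSpace ↥(K646.EtSite.sch E) := inferInstanceAs (CompactSpace E.obj.left.left)
    obtain ⟨n, W, f, h1, h2, h3⟩ := K646.EtSite.exists_finite_affine E
      (Sieve.generate (Presieve.ofArrows V g)) (Precoverage.generate_mem_toGrothendieck hg)
    have h2' : ∀ i, IsAffine (W i).obj.left.left := h2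
    refine pcAt_of_cover f h3 (fun i => qcAt_of_hom (f i) hK) fun i => ?_
    obtain ⟨_, a, _, ⟨j⟩, -⟩ := h1 i
    have h4 : StrictAt m K (V j) := by
      obtain ⟨C, α, h5, h6, h7⟩ := hV j
      exact ⟨C, α, h5, h6, h7⟩
    exact (strictAt_iff m K _ (qcAt_of_hom (f i) hK)).1 (h4.of_hom a)
  · intro h
    refine ⟨PUnit, fun _ => E, fun _ => 𝟙 E, ?_, fun _ => ?_⟩
    · rw [AlgSp.ofArrows_mem_etPre_iff]
      intro x
      exact ⟨⟨⟩, x, rfl⟩
    · obtain ⟨C, α, h5, h6, h7⟩ := (strictAt_iff m K E hK).2 h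
      exact ⟨C, α, h5, h6, h7⟩

/-- Pseudo-coherent objects with quasi-coherent cohomology. -/
theorem isPseudoCoherentEtD_iff (m : ℤ) (K : AlgSp.DModEt X) (hK : DCoh.IsQCohDMod (AlgSp.OEtRing X) K) :
    AlgSp.IsPseudoCoherentEtD m K ↔
      ∀ (E : AlgSp.EtOver X) (_ : IsAffine E.obj.left.left), PcAt m K E := by
  constructor
  · exact fun h E _ => (isPseudoCoherentEtDAt_iff m K E (qcAt_of_isQCoh hK E)).1 (h E)
  · intro h U
    choose V g hg ha hx using K646.EtSite.exists_affine U ⊤ ((AlgSp.etTop X).top_mem U)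
    refine ⟨ULift.{u + 1} ↥(K646.EtSite.sch U), fun x => V x.down, fun x => g x.down, ?_, fun x => ?_⟩
    · rw [AlgSp.ofArrows_mem_etPre_iff]
      intro x
      exact ⟨⟨x⟩, hx x⟩
    · have : IsAffine (V x.down).obj.left.left := ha x.down
      obtain ⟨C, α, h5, h6, h7⟩ := (strictAt_iff m K _ (qcAt_of_isQCoh hK _)).2 (h _ (ha x.down))
      exact ⟨C, α, h5, h6, h7⟩

end K294.PcInt
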