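import Groth.Agent.AlgSp.K294.MapExt
import Groth.Agent.AlgSp.K294.PcInt
import Groth.Agent.AlgSp.K294.AppRing
import Groth.Agent.AlgSp.K290.Thick

/-!
# Perfect and pseudo-coherent objects over an open of the small etale site
-/

set_option autoImplicit false
set_option linter.unusedSectionVars false
universe u

open CategoryTheory CategoryTheory.Limits Opposite Pretriangulated AlgebraicGeometry

attribute [local instance] HasDerivedCategory.standard

namespace K294.GlueOn
open K645.Ex K645.Lam K645.Shriek K645.Square K290.DId K290.DIdem Groth.Agent.PerfA.ExactD K294.MapExt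
  Groth.Agent.PerfA.PCMap K294.AppAbs

section general

variable {C : Type (u + 1)} [Category.{u} C] {J : GrothendieckTopology C} {R : Sheaf J RingCat.{u + 1}}
  {V : C} {U W : Opn C}
  [HasSheafify J AddCommGrpCat.{u + 1}] [J.WEqualsLocallyBijective AddCommGrpCat.{u + 1}]

theorem isIso_iD_ovr (hV : U.mem V) (N : DR (R.over V)) : IsIso ((iD (ovr U V) (R.over V)).app N) :=
  isIso_iD_top (W := ovr U V) (J := J.over V) (R := R.over V)
    (fun _ => ⟨⊤, GrothendieckTopology.top_mem _ _, fun Y' _ _ => U.down Y'.hom hV⟩) N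

theorem isIso_rD_map_iD (hV : U.mem V) (K : DR R) : IsIso ((rD R V).map ((iD U R).app K)) := by
  have h1 := isIso_iD_ovr hV ((rD R V).obj ((lD U R).obj K))
  have h2 := isIso_iD_ovr hV ((rD R V).obj K)
  have h3 := isIso_lD_map_rD_map_iD (V := V) U K
  have h4 : (lD (ovr U V) (R.over V)).map ((rD R V).map ((iD U R).app K)) ≫
      (iD (ovr U V) (R.over V)).app ((rD R V).obj K) =
      (iD (ovr U V) (R.over V)).app ((rD R V).obj ((lD U R).obj K)) ≫ (rD R V).map ((iD U R).app K) :=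
    lD_map_iD (ovr U V) ((rD R V).map ((iD U R).app K))
  have h5 : (rD R V).map ((iD U R).app K) = inv ((iD (ovr U V) (R.over V)).app ((rD R V).obj ((lD U R).obj K))) ≫
      (lD (ovr U V) (R.over V)).map ((rD R V).map ((iD U R).app K)) ≫
        (iD (ovr U V) (R.over V)).app ((rD R V).obj K) := by
    rw [h4, IsIso.inv_hom_id_assoc]
  rw [h5]
  exact inferInstance

theorem isZero_rD (hV : U.mem V) {K : DR R} (hK : vanP U R K) : IsZero ((rD R V).obj K) := by
  have := isIso_rD_map_iD hV K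
  exact ((rD R V).map_isZero hK).of_iso (asIso ((rD R V).map ((iD U R).app K))).symm

theorem eq_zero_of_isZero {M : SheafOfModules.{u + 1} R} (h : IsZero M) (E : C) (m : M.val.obj (op E)) : m = 0 :=
  congrArg (fun f => ap f E m) (h.eq_of_src (𝟙 M) 0)

/-- A sheaf supported in `W`, vanishing on `U` and over `V`, vanishes. -/
theorem isZero_of_local (H : Elem J V U W) {N : SheafOfModules.{u + 1} R} (hW : IsIso (inc W N))
    (hU : IsZero ((lam U R).obj N)) (hV : IsZero ((rst R V).obj N)) : IsZero N := by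
  refine IsZero.of_iso ?_ (asIso (inc W N)).symm
  change IsZero ((lam W R).obj N)
  rw [isZero_lam_iff] at hU ⊢
  intro E hE m
  obtain ⟨T, hT, h⟩ := H.cov E hE
  refine section_ext N T hT _ _ fun E' e he => ?_
  rcases h e he with h1 | ⟨⟨g⟩⟩
  · exact (hU E' h1 _).trans (map_zero _).symm
  · exact (eq_zero_of_isZero hV (Over.mk g) (res N e m)).trans (map_zero _).symm

theorem lt_lD {K : DR R} {m : ℤ} (h : Lt m K) : Lt m ((lD U R).obj K) := fun i hi =>
  ((lam U R).map_isZero (h i hi)).of_iso ((mapHomology (lam U R) i).app K)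

theorem lt_rD {K : DR R} {m : ℤ} (h : Lt m K) : Lt m ((rD R V).obj K) := fun i hi =>
  ((rst R V).map_isZero (h i hi)).of_iso ((mapHomology (rst R V) i).app K)

theorem lt_of_local (H : Elem J V U W) {K : DR R} {m : ℤ} (hW : suppP W R K)
    (hU : Lt m ((lD U R).obj K)) (hV : Lt m ((rD R V).obj K)) : Lt m K := by
  intro i hi
  refine isZero_of_local H ((isIso_iD_iff W K).1 hW i) ?_ ?_
  · exact (hU i hi).of_iso ((mapHomology (lam U R) i).app K).symm
  · exact (hV i hi).of_iso ((mapHomology (rst R V) i).app K).symm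

end general

section perf

open AlgSp K646.EtSite K645.TE K645.Int K290.ElemSq K294.PcInt

variable {S : Scheme.{u}} {X : AlgSp.Sp S}

/-- `K` is perfect over `O`. -/
def PerfOn (O : Opn (EtOver X)) (K : DModEt X) : Prop :=
  ∀ (E : EtOver X) (_ : IsAffine E.obj.left.left), O.mem E → PerfAt K E

/-- `K` is pseudo-coherent over `O`. -/
def PcOn (O : Opn (EtOver X)) (K : DModEt X) : Prop :=
  ∀ (E : EtOver X) (_ : IsAffine E.obj.left.left), O.mem E → ∀ m, PcAt m K E

theorem PerfOn.of_iso {O : Opn (EtOver X)} {K K' : DModEt X} (h : PerfOn O K) (e : K ≅ K') : PerfOn O K' :=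
  fun E hE hO => (h E hE hO).of_iso ((AlgSp.resDEt E).mapIso e)

theorem PcAt.of_iso {m : ℤ} {K K' : DModEt X} {E : EtOver X} [IsAffine E.obj.left.left]
    (h : PcAt m K E) (e : (AlgSp.resDEt E).obj K ≅ (AlgSp.resDEt E).obj K') : PcAt m K' E := by
  obtain ⟨M, hM, ⟨i⟩⟩ := h
  exact ⟨M, hM, ⟨i ≪≫ e⟩⟩

theorem PcOn.of_iso {O : Opn (EtOver X)} {K K' : DModEt X} (h : PcOn O K) (e : K ≅ K') : PcOn O K' :=
  fun E hE hO m => PcAt.of_iso (h E hE hO m) ((AlgSp.resDEt E).mapIso e)

theorem perfAt_lD {O : Opn (EtOver X)} {K : DModEt X} {E : EtOver X} [IsAffine E.obj.left.left] (hE : O.mem E)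
    (h : PerfAt K E) : PerfAt ((lD O (OEtRing X)).obj K) E := by
  have := isIso_rD_map_iD hE K
  exact h.of_iso (asIso ((rD (OEtRing X) E).map ((iD O (OEtRing X)).app K))).symm

theorem pcAt_lD {O : Opn (EtOver X)} {m : ℤ} {K : DModEt X} {E : EtOver X} [IsAffine E.obj.left.left]
    (hE : O.mem E) (h : PcAt m K E) : PcAt m ((lD O (OEtRing X)).obj K) E := by
  have := isIso_rD_map_iD hE K
  exact PcAt.of_iso h (asIso ((rD (OEtRing X) E).map ((iD O (OEtRing X)).app K))).symm

theorem perfOn_lD {O : Opn (EtOver X)} {K : DModEt X} (h : PerfOn O K) :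
    PerfOn O ((lD O (OEtRing X)).obj K) := fun E hE hO => perfAt_lD hO (h E hE hO)

theorem pcOn_lD {O : Opn (EtOver X)} {K : DModEt X} (h : PcOn O K) :
    PcOn O ((lD O (OEtRing X)).obj K) := fun E hE hO m => pcAt_lD hO (h E hE hO m)

open ZeroObject in
theorem perfAt_of_isZero {K : DModEt X} {E : EtOver X} [IsAffine E.obj.left.left]
    (h : IsZero ((rD (OEtRing X) E).obj K)) : PerfAt K E :=
  ⟨0, (K229.PerfInd.perf (B E)).prop_of_isZero (isZero_zero _), ⟨((TD E).map_isZero (isZero_zero _)).iso h⟩⟩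

/-- Objects perfect over `E`. -/
noncomputable def perfP (E : EtOver X) [IsAffine E.obj.left.left] : ObjectProperty (DModEt X) :=
  ((K229.PerfInd.perf (B E)).map (TD E)).inverseImage (rD (OEtRing X) E)

theorem perfP_iff (E : EtOver X) [IsAffine E.obj.left.left] (K : DModEt X) : perfP E K ↔ PerfAt K E :=
  ObjectProperty.prop_map_iff _ _ _

instance (E : EtOver X) [IsAffine E.obj.left.left] : (perfP E).IsTriangulated :=
  inferInstanceAs (((K229.PerfInd.perf (B E)).map (TD E)).inverseImage (rD (OEtRing X) E)).IsTriangulated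

instance (E : EtOver X) [IsAffine E.obj.left.left] : (perfP E).IsClosedUnderIsomorphisms :=
  inferInstanceAs (((K229.PerfInd.perf (B E)).map (TD E)).inverseImage (rD (OEtRing X) E)).IsClosedUnderIsomorphisms

open Groth.Agent.CalgB.PsCoh Groth.Agent.CalgB.PsCohGen

/-- Pseudo-coherent objects. -/
def pcR (A : Type u) [CommRing A] : ObjectProperty (Dual.D A) := fun M => ∀ m, DRing.IsPseudoCoherent A m M

instance (A : Type u) [CommRing A] : (pcR A).IsClosedUnderIsomorphisms where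
  of_iso e h m := PC.of_iso (P := ffree A) e (h m)

open ZeroObject in
instance (A : Type u) [CommRing A] : (pcR A).IsTriangulated where
  exists_zero := ⟨0, isZero_zero _, fun m => K294.AppRing.pc_of_isPerfect
    ((K229.PerfInd.perf A).prop_of_isZero (isZero_zero _)) m⟩
  isStableUnderShiftBy n := ⟨fun K hK m => PC.shift (P := ffree A) (hK (m + n)) n m rfl⟩
  ext₂' T hT h₁ h₃ := ObjectProperty.le_isoClosure _ _
    (fun m => PC.obj₂ (isProjClass_ffree A) hT (h₁ m) (h₃ m))

/-- Objects pseudo-coherent over `E`. -/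
noncomputable def pcP (E : EtOver X) [IsAffine E.obj.left.left] : ObjectProperty (DModEt X) :=
  ((pcR (B E)).map (TD E)).inverseImage (rD (OEtRing X) E)

theorem pcP_iff (E : EtOver X) [IsAffine E.obj.left.left] (K : DModEt X) : pcP E K ↔ ∀ m, PcAt m K E := by
  refine (ObjectProperty.prop_map_iff _ _ _).trans ?_
  constructor
  · rintro ⟨M, hM, ⟨e⟩⟩ m
    exact ⟨M, hM m, ⟨e⟩⟩
  · intro h
    obtain ⟨M, -, ⟨e⟩⟩ := h 0
    refine ⟨M, fun m => ?_, ⟨e⟩⟩
    obtain ⟨M', hM', ⟨e'⟩⟩ := h m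
    exact PC.of_iso (P := ffree (B E)) ((TD E).preimageIso (e' ≪≫ e.symm)) hM'

instance (E : EtOver X) [IsAffine E.obj.left.left] : (pcP E).IsTriangulated :=
  inferInstanceAs (((pcR (B E)).map (TD E)).inverseImage (rD (OEtRing X) E)).IsTriangulated

instance (E : EtOver X) [IsAffine E.obj.left.left] : (pcP E).IsClosedUnderIsomorphisms :=
  inferInstanceAs (((pcR (B E)).map (TD E)).inverseImage (rD (OEtRing X) E)).IsClosedUnderIsomorphisms

/-- Objects supported in `O` and perfect over `O`. -/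
def PO (O : Opn (EtOver X)) : ObjectProperty (DModEt X) := fun K => suppP O (OEtRing X) K ∧ PerfOn O K

instance (O : Opn (EtOver X)) : (PO O).IsClosedUnderIsomorphisms where
  of_iso e h := ⟨(suppP O (OEtRing X)).prop_of_iso e h.1, h.2.of_iso e⟩

open ZeroObject in
instance (O : Opn (EtOver X)) : (PO O).IsTriangulated where
  exists_zero := ⟨0, isZero_zero _, (suppP O (OEtRing X)).prop_of_isZero (isZero_zero _), fun E _ _ =>
    (perfP_iff E _).1 ((perfP E).prop_of_isZero (isZero_zero _))⟩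
  isStableUnderShiftBy n := ⟨fun _ hK => ⟨(suppP O (OEtRing X)).le_shift n _ hK.1, fun E hE hO =>
    (perfP_iff E _).1 ((perfP E).le_shift n _ ((perfP_iff E _).2 (hK.2 E hE hO)))⟩⟩
  ext₂' _ hT h₁ h₃ := ObjectProperty.le_isoClosure _ _
    ⟨(suppP O (OEtRing X)).ext_of_isTriangulatedClosed₂ _ hT h₁.1 h₃.1, fun E hE hO => (perfP_iff E _).1
      ((perfP E).ext_of_isTriangulatedClosed₂ _ hT ((perfP_iff E _).2 (h₁.2 E hE hO))
        ((perfP_iff E _).2 (h₃.2 E hE hO)))⟩

/-- Objects supported in `O` and pseudo-coherent over `O`. -/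
def PsO (O : Opn (EtOver X)) : ObjectProperty (DModEt X) := fun K => suppP O (OEtRing X) K ∧ PcOn O K

instance (O : Opn (EtOver X)) : (PsO O).IsClosedUnderIsomorphisms where
  of_iso e h := ⟨(suppP O (OEtRing X)).prop_of_iso e h.1, h.2.of_iso e⟩

open ZeroObject in
instance (O : Opn (EtOver X)) : (PsO O).IsTriangulated where
  exists_zero := ⟨0, isZero_zero _, (suppP O (OEtRing X)).prop_of_isZero (isZero_zero _), fun E _ _ =>
    (pcP_iff E _).1 ((pcP E).prop_of_isZero (isZero_zero _))⟩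
  isStableUnderShiftBy n := ⟨fun _ hK => ⟨(suppP O (OEtRing X)).le_shift n _ hK.1, fun E hE hO =>
    (pcP_iff E _).1 ((pcP E).le_shift n _ ((pcP_iff E _).2 (hK.2 E hE hO)))⟩⟩
  ext₂' _ hT h₁ h₃ := ObjectProperty.le_isoClosure _ _
    ⟨(suppP O (OEtRing X)).ext_of_isTriangulatedClosed₂ _ hT h₁.1 h₃.1, fun E hE hO => (pcP_iff E _).1
      ((pcP E).ext_of_isTriangulatedClosed₂ _ hT ((pcP_iff E _).2 (h₁.2 E hE hO))
        ((pcP_iff E _).2 (h₃.2 E hE hO)))⟩

theorem PO_le_PsO (O : Opn (EtOver X)) : PO O ≤ PsO O := by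
  rintro K ⟨h1, h2⟩
  refine ⟨h1, fun E hE hO m => ?_⟩
  obtain ⟨M, hM, e⟩ := h2 E hE hO
  exact ⟨M, K294.AppRing.pc_of_isPerfect hM m, e⟩

theorem PsO_lD {O₁ O₂ : Opn (EtOver X)} (h : ∀ E, O₁.mem E → O₂.mem E) {K : DModEt X} (hK : PsO O₂ K) :
    PsO O₁ ((lD O₁ (OEtRing X)).obj K) :=
  ⟨isIso_iD_lD_self K, pcOn_lD fun E hE hO => hK.2 E hE (h E hO)⟩

section elem

variable {V : EtOver X} [hVa : IsAffine V.obj.left.left] {O₁ O₂ : Opn (EtOver X)}
  (H : Elem (etTop X) V O₁ O₂)
include H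

/-- Perfect objects and elementary squares. -/
theorem perfOn_of_elem {K : DModEt X} (h₁ : PerfOn O₁ K) (hV : PerfAt K V) : PerfOn O₂ K := by
  intro E hE hO
  obtain ⟨T, hT, h⟩ := H.cov E hO
  have : CompactSpace ↥(K646.EtSite.sch E) := inferInstanceAs (CompactSpace E.obj.left.left)
  obtain ⟨n, W, f, h1, h2, h3⟩ := K646.EtSite.exists_finite_affine E T hT
  have h2' : ∀ i, IsAffine (W i).obj.left.left := h2
  refine perfAt_of_cover f h3 fun i => ?_
  rcases h (f i) (h1 i) with h4 | ⟨⟨g⟩⟩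
  · exact h₁ (W i) (h2' i) h4
  · exact hV.of_hom g

theorem PO_sD {N : DR ((OEtRing X).over V)} (hN : vanP (ovr O₁ V) ((OEtRing X).over V) N)
    (hN' : ∃ M : Dual.D (B V), DRing.IsPerfect (B V) M ∧ Nonempty ((TD V).obj M ≅ N)) :
    PO O₂ ((sD (OEtRing X) V).obj N) := by
  refine ⟨isIso_iD_W H N, perfOn_of_elem H (fun E hE hO => ?_) ?_⟩
  · exact perfAt_of_isZero (isZero_rD hO (isZero_lD_sD O₁ hN))
  · obtain ⟨M, hM, ⟨e⟩⟩ := hN'
    have := isIso_unit H hN
    exact ⟨M, hM, ⟨e ≪≫ asIso ((adjSR (OEtRing X) V).unit.app N)⟩⟩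

end elem

end perf

end K294.GlueOn
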