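import Groth.Agent.PerfA.PostHom
import Groth.Agent.PerfA.ProjHom
import Groth.Agent.Perf.K368.BddAmp
import Groth.Agent.Dcoh.RlimMap
import Groth.Agent.CohtopB.RlimRF285
import Groth.Agent.Etrest.RDer3
import Mathlib.Algebra.Category.ModuleCat.Projective
import Mathlib.Algebra.Category.Grp.ZModuleEquivalence

/-!
# Bounds for product preserving triangulated functors on derived limits of truncations

`R : D(A) ⥤ D(B)` triangulated, `K` the derived limit of its truncations `τ_{≥ -n} K`, `R` preserves the product of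
the truncations, `R (M[0]) ∈ D^{≤ c}` for all `M` in a class `P` containing the cohomology of `K`, and `B` has enough
projectives.  If `K ∈ D^{≤ b}` then `R K ∈ D^{≤ b + c}`.
-/

set_option autoImplicit false

universe w v u w' v' u'

open CategoryTheory Category Limits Pretriangulated Triangulated DerivedCategory

namespace K294.RFVan

open Groth.Agent.PerfA.PostAbs Groth.Agent.PerfA.PostTower Groth.Agent.PerfA.PostHom Groth.Agent.PerfA

section crit

variable {B : Type u'} [Category.{v'} B] [Abelian B] [HasDerivedCategory.{w'} B]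

lemma hom_eq_zero_of_isLE (P : B) [Projective P] (i m : ℤ) (h : m < i) (L : DerivedCategory B) [L.IsLE m]
    (φ : (singleFunctor B i).obj P ⟶ L) : φ = 0 :=
  ProjHom.eq_zero_of_homology_map_eq_zero P i L φ ((isZero_of_isLE L m i h).eq_of_tgt _ _)

/-- Vanishing of homology is detected by maps from shifted projectives. -/
lemma isZero_homology_of_hom [EnoughProjectives B] (K : DerivedCategory B) (i : ℤ)
    (h : ∀ (P : B) [Projective P] (φ : (singleFunctor B i).obj P ⟶ K), φ = 0) :
    IsZero ((homologyFunctor B i).obj K) := by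
  obtain ⟨Z, ζ, hζ⟩ := exists_single_epi K i
  obtain ⟨pr⟩ := EnoughProjectives.presentation Z
  have hP := pr.projective
  have hπ := pr.epi
  let P := pr.p
  let π : P ⟶ Z := pr.f
  have h0 := h P ((singleFunctor B i).map π ≫ ζ)
  have h1 : Epi ((homologyFunctor B i).map ((singleFunctor B i).map π)) := by
    have e := (singleFunctorCompHomologyFunctorIso B i).hom.naturality π
    have h2 : Epi ((homologyFunctor B i).map ((singleFunctor B i).map π) ≫
        (singleFunctorCompHomologyFunctorIso B i).hom.app Z) := by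
      have : (homologyFunctor B i).map ((singleFunctor B i).map π) ≫
        (singleFunctorCompHomologyFunctorIso B i).hom.app Z =
        (singleFunctorCompHomologyFunctorIso B i).hom.app P ≫ π := e
      rw [this]
      exact epi_comp _ _
    have h3 : (homologyFunctor B i).map ((singleFunctor B i).map π) =
        ((homologyFunctor B i).map ((singleFunctor B i).map π) ≫
        (singleFunctorCompHomologyFunctorIso B i).hom.app Z) ≫
        (singleFunctorCompHomologyFunctorIso B i).inv.app Z := by simp
    rw [h3]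
    exact epi_comp _ _
  have h4 : Epi ((homologyFunctor B i).map ((singleFunctor B i).map π ≫ ζ)) := by
    rw [Functor.map_comp]
    exact epi_comp _ _
  rw [h0, Functor.map_zero] at h4
  exact IsZero.of_epi_eq_zero
    (0 : (homologyFunctor B i).obj ((singleFunctor B i).obj P) ⟶ (homologyFunctor B i).obj K) rfl

end crit

variable {A : Type u} [Category.{v} A] [Abelian A] [HasDerivedCategory.{w} A]

/-- The homology of the fibre of `τ_{≥ -(n+1)} K ⟶ τ_{≥ -n} K`. -/
lemma fib_homology (K : DerivedCategory A) (k : ℕ) {F : DerivedCategory A} (f : F ⟶ E K (k + 1))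
    (g : E K k ⟶ F⟦(1 : ℤ)⟧) (hT : Triangle.mk f (trans K k) g ∈ distTriang (DerivedCategory A)) :
    (∀ i : ℤ, i ≠ -((k + 1 : ℕ) : ℤ) → IsZero ((homologyFunctor A i).obj F)) ∧
    Nonempty ((homologyFunctor A (-((k + 1 : ℕ) : ℤ))).obj F ≅
      (homologyFunctor A (-((k + 1 : ℕ) : ℤ))).obj K) := by
  set r : ℤ := -((k + 1 : ℕ) : ℤ) with hr
  have hr' : r = -(k : ℤ) - 1 := by rw [hr]; push_cast; ring
  constructor
  · intro i hi
    rcases lt_or_gt_of_ne hi with hi | hi
    · refine isZero_homology_obj₁ _ hT (i - 1) i (by lia) ?_ ?_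
      · have hz : IsZero ((homologyFunctor A (i - 1)).obj (E K k)) :=
          isZero_of_isGE _ (-(k : ℤ)) _ (by lia)
        exact ⟨fun _ _ _ => hz.eq_of_src _ _⟩
      · have hz : IsZero ((homologyFunctor A i).obj (E K (k + 1))) :=
          isZero_of_isGE _ (-((k + 1 : ℕ) : ℤ)) _ (by lia)
        exact ⟨fun _ _ _ => hz.eq_of_tgt _ _⟩
    · refine isZero_homology_obj₁ _ hT (i - 1) i (by lia) ?_ ?_
      · change Epi ((homologyFunctor A (i - 1)).map (trans K k))
        by_cases h1 : -(k : ℤ) ≤ i - 1
        · have := isIso_homology_trans K k (i - 1) h1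
          infer_instance
        · have hz : IsZero ((homologyFunctor A (i - 1)).obj (E K k)) :=
            isZero_of_isGE _ (-(k : ℤ)) _ (by lia)
          exact ⟨fun _ _ _ => hz.eq_of_src _ _⟩
      · change Mono ((homologyFunctor A i).map (trans K k))
        have := isIso_homology_trans K k i (by lia)
        infer_instance
  · have hmono : Mono ((homologyFunctor A r).map f) := by
      refine (HomologySequence.mono_homologyMap_mor₁_iff _ hT (r - 1) r (by lia)).2 ?_
      have hz : IsZero ((homologyFunctor A (r - 1)).obj (E K k)) :=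
        isZero_of_isGE _ (-(k : ℤ)) _ (by lia)
      exact hz.eq_of_src _ _
    have hepi : Epi ((homologyFunctor A r).map f) := by
      refine (HomologySequence.epi_homologyMap_mor₁_iff _ hT r).2 ?_
      have hz : IsZero ((homologyFunctor A r).obj (E K k)) :=
        isZero_of_isGE _ (-(k : ℤ)) _ (by lia)
      exact hz.eq_of_tgt _ _
    have hiso : IsIso ((homologyFunctor A r).map f) := isIso_of_mono_of_epi _
    have hiso' : IsIso ((homologyFunctor A r).map (toE K (k + 1))) :=
      isIso_homology_truncGEπ K (-((k + 1 : ℕ) : ℤ)) r le_rfl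
    exact ⟨asIso ((homologyFunctor A r).map f) ≪≫
      (asIso ((homologyFunctor A r).map (toE K (k + 1)))).symm⟩

variable {B : Type u'} [Category.{v'} B] [Abelian B] [HasDerivedCategory.{w'} B]

section main

variable (R : DerivedCategory A ⥤ DerivedCategory B) [R.CommShift ℤ] [R.IsTriangulated]
  (P : ObjectProperty A) [P.IsClosedUnderIsomorphisms] [P.ContainsZero] (c : ℤ)
  (h : ∀ M, P M → (R.obj ((singleFunctor A 0).obj M)).IsLE c)

include h

lemma isLE_truncGE (K : DerivedCategory A) (hP : ∀ i, P ((homologyFunctor A i).obj K)) (b : ℤ) [K.IsLE b]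
    (a : ℤ) : (R.obj ((tt.truncGE a).obj K)).IsLE (b + c) := by
  have h1 := Groth.Agent.PerfA.PostHom.isLE_truncGE K a b
  refine K368.BddAmp.isLE_of_bounded R P c h (b - a + 1).toNat a b (by lia) _ inferInstance h1 (fun q => ?_)
  by_cases h' : a ≤ q
  · have := isIso_homology_truncGEπ K a q h'
    exact P.prop_of_iso (asIso ((homologyFunctor A q).map ((tt.truncGEπ a).app K))) (hP q)
  · exact P.prop_of_isZero (isZero_of_isGE _ a q (by lia))

lemma isLE_fib (K : DerivedCategory A) (hP : ∀ i, P ((homologyFunctor A i).obj K)) (b : ℤ) [K.IsLE b]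
    (k : ℕ) {F : DerivedCategory A} (f : F ⟶ E K (k + 1))
    (g : E K k ⟶ F⟦(1 : ℤ)⟧) (hT : Triangle.mk f (trans K k) g ∈ distTriang (DerivedCategory A)) :
    (R.obj F).IsLE (b + c) := by
  obtain ⟨h1, ⟨e⟩⟩ := fib_homology K k f g hT
  set r : ℤ := -((k + 1 : ℕ) : ℤ) with hr
  have hFGE : F.IsGE r := (isGE_iff F r).2 fun i hi => h1 i (by lia)
  have hFLE : F.IsLE b := (isLE_iff F b).2 fun i hi => by
    by_cases hir : i = r
    · subst hir
      exact (isZero_of_isLE K b _ hi).of_iso e
    · exact h1 i hir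
  refine K368.BddAmp.isLE_of_bounded R P c h (b - r + 1).toNat r b (by lia) F hFGE hFLE (fun q => ?_)
  by_cases hir : q = r
  · subst hir
    exact P.prop_of_iso e.symm (hP _)
  · exact P.prop_of_isZero (h1 q hir)

/-- The bound for derived limits of truncations. -/
theorem isLE_of_isPostnikov [EnoughProjectives B] (K : DerivedCategory A) [HasProduct (E K)] (hK : IsPostnikov K)
    [PreservesLimit (Discrete.functor (E K)) R] (hP : ∀ i, P ((homologyFunctor A i).obj K)) (b : ℤ)
    [K.IsLE b] : (R.obj K).IsLE (b + c) := by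
  have hprod : HasProduct fun n => R.obj (E K n) := ⟨⟨⟨_, isLimitOfHasProductOfPreservesLimit R (E K)⟩⟩⟩
  obtain ⟨c₀, hT₀⟩ := hK
  obtain ⟨p, c', hT⟩ := Groth.Agent.Dcoh.RlimMap.isRlim_map R (E K) (trans K) K ⟨_, c₀, hT₀⟩
  rw [isLE_iff]
  intro i hi
  refine isZero_homology_of_hom _ i (fun G _ φ => ?_)
  refine milnor_unique (E := fun n => R.obj (E K n)) (fun n => R.map (trans K n)) p c' hT _ (fun n y => ?_) φ
    (fun n => ?_)
  · obtain ⟨F, f, g, hF⟩ := distinguished_cocone_triangle₁ (trans K n)
    have h1 := R.map_distinguished _ hF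
    have h2 := isLE_fib R P c h K hP b n f g hF
    have h3 : ∀ ψ : (singleFunctor B i).obj G ⟶ R.obj F, ψ = 0 := fun ψ =>
      hom_eq_zero_of_isLE G i (b + c) hi _ ψ
    have h4 : ∀ ψ : ((singleFunctor B i).obj G)⟦(1 : ℤ)⟧ ⟶ (R.obj F)⟦(1 : ℤ)⟧, ψ = 0 := by
      intro ψ
      obtain ⟨ψ', rfl⟩ := (shiftFunctor (DerivedCategory B) (1 : ℤ)).map_surjective ψ
      rw [h3 ψ', Functor.map_zero]
    obtain ⟨z, hz⟩ := Triangle.coyoneda_exact₃ _ h1 y (h4 _)
    exact ⟨z, hz.symm⟩
  · have h1 := isLE_truncGE R P c h K hP b (-(n : ℤ))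
    exact hom_eq_zero_of_isLE G i (b + c) hi _ _

end main

/-- The comparison with truncations. -/
theorem isIso_homology_map_truncGEπ (R : DerivedCategory A ⥤ DerivedCategory B) [R.CommShift ℤ]
    [R.IsTriangulated] (K : DerivedCategory A) (a m : ℤ)
    (hlt : (R.obj ((tt.truncLT a).obj K)).IsLE m) (i : ℤ) (hi : m < i) :
    IsIso ((homologyFunctor B i).map (R.map ((tt.truncGEπ a).app K))) := by
  have hT := R.map_distinguished _ (tt.triangleLTGE_distinguished a K)
  have h1 : IsZero ((homologyFunctor B i).obj (R.obj ((tt.truncLT a).obj K))) :=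
    isZero_of_isLE _ m i hi
  have h2 : IsZero ((homologyFunctor B (i + 1)).obj (R.obj ((tt.truncLT a).obj K))) :=
    isZero_of_isLE _ m (i + 1) (by lia)
  have : Mono ((homologyFunctor B i).map (R.map ((tt.truncGEπ a).app K))) :=
    (HomologySequence.mono_homologyMap_mor₂_iff _ hT i).2 (h1.eq_of_src _ _)
  have : Epi ((homologyFunctor B i).map (R.map ((tt.truncGEπ a).app K))) :=
    (HomologySequence.epi_homologyMap_mor₂_iff _ hT i (i + 1)).2 (h2.eq_of_tgt _ _)
  exact isIso_of_mono_of_epi _


section TR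

open Groth.Agent.Etrest.RDer3

/-- The total right derived functor of a functor preserving products preserves products. -/
theorem preservesLimit_TR [IsGrothendieckAbelian.{v} A] [HasKInj A] (F : A ⥤ B) [F.Additive]
    [HasProductsOfShape ℕ B] [HasExactLimitsOfShape (Discrete ℕ) B] [PreservesLimitsOfShape (Discrete ℕ) F]
    (K : ℕ → DerivedCategory A) : PreservesLimit (Discrete.functor K) (TR F) := by
  have := hasRightDerivedFunctor F
  have := Groth.Agent.CohtopB.RlimRF285.preservesLimit F ℕ
    ((Kh F).totalRightDerived DerivedCategory.Qh (HomotopyCategory.quasiIso A (.up ℤ)))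
    ((Kh F).totalRightDerivedUnit DerivedCategory.Qh (HomotopyCategory.quasiIso A (.up ℤ))) K
  exact preservesLimit_of_natIso _ (TRIso F)

omit [HasDerivedCategory.{w} A] in
theorem hasKInj [IsGrothendieckAbelian.{v} A] : HasKInj A where
  out K := by
    obtain ⟨I, f, h₁, h₂, -, -⟩ := Groth.Agent.CohtopA.KInjRes2.exists_kInjective_resolution.{v} K
    exact ⟨I, f, h₁, h₂⟩

/-- The bound for total right derived functors. -/
theorem isLE_TR [IsGrothendieckAbelian.{v} A] [HasKInj A] [EnoughProjectives B] (F : A ⥤ B) [F.Additive]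
    [PreservesFiniteLimits F]
    [HasProductsOfShape ℕ B] [HasExactLimitsOfShape (Discrete ℕ) B] [PreservesLimitsOfShape (Discrete ℕ) F]
    (P : ObjectProperty A) [P.IsClosedUnderIsomorphisms] [P.ContainsZero] (N : ℕ)
    (hF : ∀ M, P M → ∀ p : ℕ, N ≤ p → IsZero ((F.rightDerived p).obj M))
    (K : DerivedCategory A) [HasProduct (E K)] (hK : IsPostnikov K)
    (hP : ∀ i, P ((homologyFunctor A i).obj K)) (b : ℤ) [K.IsLE b] : ((TR F).obj K).IsLE (b + ((N : ℤ) - 1)) := by
  have := preservesLimit_TR F (E K)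
  refine isLE_of_isPostnikov (TR F) P ((N : ℤ) - 1) (fun M hM => ?_) K hK hP b
  rw [DerivedCategory.isLE_iff]
  intro j hj
  by_cases hj0 : 0 ≤ j
  · obtain ⟨p, rfl⟩ := Int.eq_ofNat_of_zero_le hj0
    exact (hF M hM p (by lia)).of_iso ((HTRsingle F p).app M)
  · exact isZero_HTRsingle F M j (by lia)

end TR

end K294.RFVan

/-- Abelian groups have enough projectives. -/
theorem K294.RFVan.enoughProjectives_ab : CategoryTheory.EnoughProjectives AddCommGrpCat.{u} :=
  ((CategoryTheory.forget₂ (ModuleCat.{u} ℤ) AddCommGrpCat.{u}).asEquivalence.enoughProjectives_iff).1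
    inferInstance
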