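import Groth.Agent.AlgSp.K294.KInjCyc
import Groth.Agent.AlgSp.K294.QcSerre
import Groth.Agent.AlgSp.K294.RFVan
import Groth.Agent.AlgSp.K643.PushAff
import Groth.Agent.AlgSp.K617.PushQc

/-!
# `Rf_*` along an affine morphism is conservative on complexes with quasi-coherent cohomology
-/

set_option autoImplicit false

universe u

open CategoryTheory CategoryTheory.Limits AlgebraicGeometry Opposite DerivedCategory Pretriangulated

set_option backward.isDefEq.respectTransparency false

namespace K294.AffCons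

open AlgSp K644.EtSite K644.Site K644.Exact K643.Site K643.PushConst Groth.Agent.Etbase.FFExact
open scoped K644.Chart

attribute [local instance] HasDerivedCategory.standard

variable {S : Scheme.{u}} {X Y : Sp S} {f : X ⟶ Y} (hf : Representable f)

/-- Sections over an object mapping to an affine `bc E`, `E` affine, vanish if they do over the `bc E`. -/
theorem eq_zero_of_hom_bc (haff : IsAffineMor f) (M : ModEt X) [M.IsQuasicoherent]
    (h0 : ∀ E : EtOver Y, IsAffine (K644.EtSite.sch E) →
      ∀ s : M.val.presheaf.obj (op ((EtOver.bc hf).obj E)), s = 0)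
    {Z : EtOver X} {E : EtOver Y} (hE : IsAffine (K644.EtSite.sch E)) (k : Z ⟶ (EtOver.bc hf).obj E)
    (s : M.val.presheaf.obj (op Z)) : s = 0 := by
  refine ext_affine (T := EtOver.toScheme X) (M := M) (U := Z) s 0 (fun V g hV => ?_)
  have hbc : IsAffine (K644.EtSite.sch ((EtOver.bc hf).obj E)) :=
    K643.PushEt.isAffine_bcObj hf haff E hE
  have hBC := K644.Chart.isBC_of_isQuasicoherent M (g ≫ k) hbc hV
  have h1 := K644.Pres.IsBC.span_eq_top hBC (I := Empty) (fun x => x.elim) (by
    rw [eq_top_iff]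
    rintro y -
    rw [h0 E hE y]
    exact Submodule.zero_mem _)
  have h2 : ∀ y : M.val.presheaf.obj (op V), y = 0 := by
    intro y
    have : y ∈ (⊤ : Submodule Γ(V.obj.left.left, ⊤) (M.val.presheaf.obj (op V))) := trivial
    rw [← h1, Set.range_eq_empty, Submodule.span_empty] at this
    exact this
  exact (h2 _).trans (h2 _).symm

/-- A quasi-coherent module vanishing over the base changes of affine objects is zero. -/
theorem isZero_of_bc (hY : IsAlgSpace Y) (haff : IsAffineMor f) (M : ModEt X) [M.IsQuasicoherent]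
    (h0 : ∀ E : EtOver Y, IsAffine (K644.EtSite.sch E) →
      ∀ s : M.val.presheaf.obj (op ((EtOver.bc hf).obj E)), s = 0) : IsZero M := by
  have hs : ∀ (U : EtOver X) (s : M.val.presheaf.obj (op U)), s = 0 := by
    intro U s
    refine ext_of_bc hf (F := (SheafOfModules.toSheaf _).obj M) (exists_surj hY) (U := U) (s := s) (t := 0)
      (fun Z g E k => ?_)
    -- cover `Z` by objects over `bc E'`, `E'` affine
    let R : Sieve E := Sieve.generate (fun E' _ => IsAffine (K644.EtSite.sch E'))
    have hR : R ∈ etTop Y E := by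
      rw [K643.Site.mem_iff]
      intro y
      obtain ⟨E', g', -, hE', ⟨v, hv⟩⟩ := K646.EtSite.exists_affine E ⊤ ((etTop Y).top_mem _) y
      exact ⟨E', g', v, Sieve.le_generate _ _ _ hE', hv⟩
    have hR2 := (etTop X).pullback_stable k 
      ((CoverPreserving.of_isContinuous (EtOver.bc hf) (etTop Y) (etTop X)).cover_preserve hR)
    refine ext_of_mem (M := M) hR2 _ _ ?_
    rintro V h ⟨E', g', l, ⟨E'', a, b, hE'', rfl⟩, hfac⟩
    have h1 : ∀ t : M.val.presheaf.obj (op V), t = 0 :=
      eq_zero_of_hom_bc hf haff M h0 hE'' (l ≫ (EtOver.bc hf).map a)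
    exact (h1 _).trans (h1 _).symm
  rw [IsZero.iff_id_eq_zero]
  refine hom_ext_affine (T := EtOver.toScheme X) _ _ (fun U _ x => ?_)
  exact (hs U _).trans (hs U _).symm

theorem preservesFiniteLimits_pushModEt : PreservesFiniteLimits (pushModEt hf) := by
  have h0 : pushModEt hf ⋙ SheafOfModules.toSheaf.{u + 1} _ =
    SheafOfModules.toSheaf _ ⋙ pushEt hf AddCommGrpCat.{u + 1} := rfl
  have h1 : PreservesFiniteLimits (pushModEt hf ⋙ SheafOfModules.toSheaf.{u + 1} _) := by
    rw [h0]
    infer_instance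
  have h2 : ReflectsFiniteLimits (SheafOfModules.toSheaf.{u + 1} (OEtRing Y)) := inferInstance
  exact preservesFiniteLimits_of_reflects_of_preserves (pushModEt hf) (SheafOfModules.toSheaf.{u + 1} _)

theorem qc_iso {M N : ModEt X} (e : M ≅ N) (h : M.IsQuasicoherent) : N.IsQuasicoherent :=
  (SheafOfModules.isQuasicoherent (OEtRing X)).prop_of_iso e h

/-- If `f_*` of a K-injective complex with quasi-coherent cohomology is acyclic, the complex is acyclic. -/
theorem isZero_homology (hY : IsAlgSpace Y) (haff : IsAffineMor f) (I : CochainComplex (ModEt X) ℤ)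
    [I.IsKInjective] (hI : ∀ q : ℤ, ((homologyFunctor (ModEt X) q).obj (Q.obj I)).IsQuasicoherent) (q : ℤ)
    (h : ((I.sc q).map (pushModEt hf)).Exact) : IsZero (I.homology q) := by
  have := K646.Inst.isGrothendieckAbelian X
  have hprod : HasLimitsOfShape (Discrete ℕ) (AlgSp.DModEt X) :=
    Groth.Agent.CohtopA.DerProd.hasLimitsOfShape_discrete.{_, u + 1} (AlgSp.ModEt X) ℕ
  have hfin := preservesFiniteLimits_pushModEt hf
  have h1 : (pushModEt hf).map (I.homologyπ q) = 0 := K294.KInjCyc.map_homologyπ_eq_zero (pushModEt hf) (I.sc q) h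
  have hqc : (I.homology q).IsQuasicoherent :=
    (qc_iso ((homologyFunctorFactors (ModEt X) q).app I)) (hI q)
  refine isZero_of_bc hf hY haff _ (fun E hE s => ?_)
  have hbc : IsAffine (K644.EtSite.sch ((EtOver.bc hf).obj E)) :=
    K643.PushEt.isAffine_bcObj hf haff E hE
  obtain ⟨z, hz⟩ := K294.KInjCyc.exists_lift_cycles I (K646.Inst.OU ((EtOver.bc hf).obj E)) q
    ((K646.AcycX.acyc X).bijective_homology (K := Q.obj I) hI ⟨_, hbc, rfl⟩ q).2
    (K646.Free.OUequiv.{u + 1}.symm s)
  have h2 : s = (I.homologyπ q).val.app (op ((EtOver.bc hf).obj E)) (K646.Free.OUequiv.{u + 1} z) := by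
    rw [← K646.Free.OUequiv_comp, hz, Equiv.apply_symm_apply]
  have h3 : ∀ t : (I.cycles q).val.presheaf.obj (op ((EtOver.bc hf).obj E)),
      (I.homologyπ q).val.app (op ((EtOver.bc hf).obj E)) t = 0 := fun t =>
    congrArg (fun k : (pushModEt hf).obj (I.cycles q) ⟶ (pushModEt hf).obj (I.homology q) =>
      k.val.app (op E) t) h1
  exact h2.trans (h3 _)

open Groth.Agent.Etrest.RDer3 Groth.Agent.PerfA.CohomIn in
/-- `Rf_*` kills no complex with quasi-coherent cohomology. -/
theorem isZero_of_isZero_TR (hY : IsAlgSpace Y) (haff : IsAffineMor f) [HasKInj (ModEt X)] (K : DModEt X)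
    (hK : DCoh.IsQCohDMod (OEtRing X) K) (h : IsZero ((TR (pushModEt hf)).obj K)) : IsZero K := by
  have := K646.Inst.isGrothendieckAbelian X
  obtain ⟨I, hI, ⟨e⟩⟩ := Groth.Agent.CohtopA.DerProd.exists_kInjective_iso.{_, u + 1} K
  have hu := isIso_unitQ_of_isKInjective (pushModEt hf) I hI
  have h1 : IsZero (Q.obj (((pushModEt hf).mapHomologicalComplex (ComplexShape.up ℤ)).obj I)) :=
    h.of_iso ((asIso ((unitQ (pushModEt hf)).app I)) ≪≫ (TR (pushModEt hf)).mapIso e.symm)
  rw [Groth.Agent.PerfA.ExactD.isZero_iff]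
  intro q
  have h2 : IsZero ((((pushModEt hf).mapHomologicalComplex (ComplexShape.up ℤ)).obj I).homology q) :=
    ((homologyFunctor (ModEt Y) q).map_isZero h1).of_iso ((homologyFunctorFactors (ModEt Y) q).app _).symm
  have h3 : ((I.sc q).map (pushModEt hf)).Exact := (ShortComplex.exact_iff_isZero_homology _).2 h2
  have h4 := isZero_homology hf hY haff I (fun q => qc_iso ((homologyFunctor (ModEt X) q).mapIso e) (hK q)) q h3
  exact h4.of_iso ((homologyFunctor (ModEt X) q).mapIso e ≪≫ (homologyFunctorFactors (ModEt X) q).app I)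

open Groth.Agent.Etrest.RDer3 Groth.Agent.PerfA.CohomIn in
/-- `Rf_*` reflects isomorphisms between complexes with quasi-coherent cohomology. -/
theorem isIso_of_isIso_TR (hY : IsAlgSpace Y) (haff : IsAffineMor f) [HasKInj (ModEt X)] {K L : DModEt X}
    (hK : DCoh.IsQCohDMod (OEtRing X) K) (hL : DCoh.IsQCohDMod (OEtRing X) L) (α : K ⟶ L)
    (h : IsIso ((TR (pushModEt hf)).map α)) : IsIso α := by
  obtain ⟨Z, a, b, hT⟩ := distinguished_cocone_triangle α
  have hZ : coh (K294.QcSerre.qc X) Z :=
    (coh (K294.QcSerre.qc X)).ext_of_isTriangulatedClosed₃ _ hT hK hL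
  have h1 := (TR (pushModEt hf)).map_distinguished _ hT
  have h2 : IsZero ((TR (pushModEt hf)).obj Z) := (Triangle.isZero₃_iff_isIso₁ _ h1).2 h
  exact (Triangle.isZero₃_iff_isIso₁ _ hT).1 (isZero_of_isZero_TR hf hY haff Z hZ h2)

end K294.AffCons
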