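import Groth.Agent.PerfA.PCMap
import Mathlib.Algebra.Homology.DerivedCategory.HomologySequence
import Mathlib.Algebra.Homology.DerivedCategory.TStructure
import Mathlib.CategoryTheory.Triangulated.Subcategory

/-!
# Approximation of objects of a derived category: formal part

`App P E m`: there is an object `K` with `P K` and a morphism `K ⟶ E` whose cone has no cohomology in degrees `≥ m`.
-/

set_option autoImplicit false

universe w v u

open CategoryTheory CategoryTheory.Limits Pretriangulated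
open scoped ZeroObject

namespace K294.AppAbs

open Groth.Agent.PerfA.PCMap

variable {A : Type u} [Category.{v} A] [Abelian A] [HasDerivedCategory.{w} A]

local notation "HH" => DerivedCategory.homologyFunctor A

/-- The cohomology of `C` vanishes in degrees `≥ m`. -/
def Lt (m : ℤ) (C : DerivedCategory A) : Prop := ∀ i : ℤ, m ≤ i → IsZero ((HH i).obj C)

theorem Lt.of_iso {m : ℤ} {C C' : DerivedCategory A} (h : Lt m C) (e : C ≅ C') : Lt m C' :=
  fun i hi => (h i hi).of_iso ((HH i).mapIso e.symm)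

theorem Lt.mono {m m' : ℤ} {C : DerivedCategory A} (h : Lt m C) (hm : m ≤ m') : Lt m' C :=
  fun i hi => h i (hm.trans hi)

theorem Lt.obj₂ {m : ℤ} {T : Triangle (DerivedCategory A)} (hT : T ∈ distTriang _)
    (h₁ : Lt m T.obj₁) (h₃ : Lt m T.obj₃) : Lt m T.obj₂ := fun i hi =>
  (DerivedCategory.HomologySequence.exact₂ T hT i).isZero_of_both_zeros
    ((h₁ i hi).eq_of_src _ _) ((h₃ i hi).eq_of_tgt _ _)

theorem Lt.obj₃ {m : ℤ} {T : Triangle (DerivedCategory A)} (hT : T ∈ distTriang _)
    (h₁ : Lt (m + 1) T.obj₁) (h₂ : Lt m T.obj₂) : Lt m T.obj₃ := fun i hi =>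
  (DerivedCategory.HomologySequence.exact₃ T hT i (i + 1) rfl).isZero_of_both_zeros
    ((h₂ i hi).eq_of_src _ _) ((h₁ (i + 1) (by lia)).eq_of_tgt _ _)

theorem Lt.obj₁ {m : ℤ} {T : Triangle (DerivedCategory A)} (hT : T ∈ distTriang _)
    (h₂ : Lt (m + 1) T.obj₂) (h₃ : Lt m T.obj₃) : Lt (m + 1) T.obj₁ := fun i hi =>
  (DerivedCategory.HomologySequence.exact₁ T hT (i - 1) i (by lia)).isZero_of_both_zeros
    ((h₃ (i - 1) (by lia)).eq_of_src _ _) ((h₂ i hi).eq_of_tgt _ _)

theorem lt_of_isZero {m : ℤ} {C : DerivedCategory A} (h : IsZero C) : Lt m C :=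
  fun i _ => (HH i).map_isZero h

theorem isLE_iff_lt (m : ℤ) (C : DerivedCategory A) : C.IsLE m ↔ Lt (m + 1) C := by
  rw [DerivedCategory.isLE_iff]
  exact ⟨fun h i hi => h i (by lia), fun h i hi => h i (by lia)⟩

/-- The cone of an approximation. -/
theorem pcd_iff {m : ℤ} {T : Triangle (DerivedCategory A)} (hT : T ∈ distTriang _) :
    PCD m T.mor₁ ↔ Lt m T.obj₃ := by
  constructor
  · intro h i hi
    have he : Epi ((HH i).map T.mor₁) := by
      rcases hi.eq_or_lt with rfl | hi
      · exact h.2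
      · have := h.1 i hi
        infer_instance
    have hm : Mono ((HH (i + 1)).map T.mor₁) := by
      have := h.1 (i + 1) (by lia)
      infer_instance
    exact (DerivedCategory.HomologySequence.exact₃ _ hT i (i + 1) rfl).isZero_of_both_zeros
      ((DerivedCategory.HomologySequence.epi_homologyMap_mor₁_iff _ hT i).1 he)
      ((DerivedCategory.HomologySequence.mono_homologyMap_mor₁_iff _ hT i (i + 1) rfl).1 hm)
  · intro hC
    have hepi : ∀ i : ℤ, m ≤ i → Epi ((HH i).map T.mor₁) := by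
      intro i hi
      exact (DerivedCategory.HomologySequence.epi_homologyMap_mor₁_iff _ hT i).2
        ((hC i hi).eq_of_tgt _ _)
    refine ⟨fun i hi => ?_, hepi m le_rfl⟩
    have h1 := hepi i hi.le
    have h2 : Mono ((HH i).map T.mor₁) :=
      (DerivedCategory.HomologySequence.mono_homologyMap_mor₁_iff _ hT (i - 1) i (by lia)).2
        ((hC (i - 1) (by lia)).eq_of_src _ _)
    exact isIso_of_mono_of_epi _

theorem pcd_comp {m : ℤ} {K L M : DerivedCategory A} {α : K ⟶ L} {β : L ⟶ M} (h : PCD m α) (h' : PCD m β) :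
    PCD m (α ≫ β) := by
  refine ⟨fun i hi => ?_, ?_⟩
  · have := h.1 i hi
    have := h'.1 i hi
    rw [Functor.map_comp]
    infer_instance
  · have := h.2
    have := h'.2
    rw [Functor.map_comp]
    exact epi_comp _ _

theorem pcd_mono {m m' : ℤ} (hm : m ≤ m') {K L : DerivedCategory A} {α : K ⟶ L} (h : PCD m α) : PCD m' α := by
  refine ⟨fun i hi => h.1 i (by lia), ?_⟩
  rcases hm.eq_or_lt with rfl | hm
  · exact h.2
  · have := h.1 m' hm
    infer_instance

theorem pcd_of_isIso (m : ℤ) {K L : DerivedCategory A} (α : K ⟶ L) [IsIso α] : PCD m α :=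
  ⟨fun _ _ => inferInstance, inferInstance⟩

/-- There is an object `K` with `P K` and a morphism `K ⟶ E` whose cone has vanishing cohomology in degrees `≥ m`. -/
def App (P : ObjectProperty (DerivedCategory A)) (E : DerivedCategory A) (m : ℤ) : Prop :=
  ∃ (K : DerivedCategory A) (α : K ⟶ E), P K ∧ PCD m α

variable {P : ObjectProperty (DerivedCategory A)}

theorem App.mono {Q : ObjectProperty (DerivedCategory A)} (hPQ : P ≤ Q) {E : DerivedCategory A} {m : ℤ}
    (H : App P E m) : App Q E m := by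
  obtain ⟨K, α, hK, hα⟩ := H
  exact ⟨K, α, hPQ _ hK, hα⟩

theorem App.of_iso {E E' : DerivedCategory A} {m : ℤ} (H : App P E m) (e : E ≅ E') : App P E' m := by
  obtain ⟨K, α, hK, hα⟩ := H
  exact ⟨K, α ≫ e.hom, hK, pcd_comp hα (pcd_of_isIso m _)⟩

theorem app_of_lt [P.IsTriangulated] [P.IsClosedUnderIsomorphisms] {E : DerivedCategory A} {m : ℤ}
    (h : Lt m E) : App P E m := by
  refine ⟨0, 0, P.prop_of_isZero (isZero_zero _), ?_⟩
  exact (pcd_iff (T := Triangle.mk (0 : 0 ⟶ E) (𝟙 E) 0) (contractible_distinguished₁ E)).2 h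

/-- If `Q ⟶ E ⟶ E' ⟶ Q[1]` is distinguished with `P Q`, then an approximation of `E'` gives one of `E`. -/
theorem App.of_cone [P.IsTriangulated] [P.IsClosedUnderIsomorphisms] {T : Triangle (DerivedCategory A)}
    (hT : T ∈ distTriang _) {m : ℤ} (hQ : P T.obj₁) (H : App P T.obj₃ m) : App P T.obj₂ m := by
  obtain ⟨Q', α, hQ', hα⟩ := H
  obtain ⟨C, g', k, hT'⟩ := distinguished_cocone_triangle α
  have hC : Lt m C := (pcd_iff hT').1 hα
  obtain ⟨K, β, w, hK⟩ := distinguished_cocone_triangle₁ (T.mor₂ ≫ g')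
  have o := Triangulated.someOctahedron (show T.mor₂ ≫ g' = _ from rfl)
    (rot_of_distTriang _ hT) (rot_of_distTriang _ hT') (rot_of_distTriang _ hK)
  have h3 := o.mem
  have h4 : P (K⟦(1 : ℤ)⟧) := P.ext_of_isTriangulatedClosed₂ _ h3 (P.le_shift 1 _ hQ) (P.le_shift 1 _ hQ')
  have h5 : P K := P.prop_of_iso ((shiftEquiv _ (1 : ℤ)).unitIso.symm.app K) (P.le_shift (-1) _ h4)
  exact ⟨K, β, h5, (pcd_iff hK).2 hC⟩

end K294.AppAbs
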