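import Groth.Agent.AlgSp.K294.Step
import Groth.Agent.AlgSp.K646.Inst
import Groth.Agent.CohtopB.DCoprod
import Groth.Agent.S10771

/-!
# Approximation by perfect complexes on algebraic spaces
-/

set_option autoImplicit false
set_option linter.unusedSectionVars false
universe u

open CategoryTheory CategoryTheory.Limits Opposite Pretriangulated AlgebraicGeometry

attribute [local instance] HasDerivedCategory.standard

namespace K294.Final
open K645.Lam K645.Square K290.DIdem Groth.Agent.PerfA.ExactD K294.MapExt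
  Groth.Agent.PerfA.PCMap K294.AppAbs K294.GlueOn K294.MapLift K294.Step
open AlgSp K646.EtSite K645.TE K645.Int K290.ElemSq K294.PcInt

variable {S : Scheme.{u}}

/-- The inputs of the induction. -/
def Inputs (X : AlgSp.Sp S) : Prop :=
  ∀ (O₁ O₂ : Set (Points X)) (V : EtOver X) (_ : IsAffine V.obj.left.left), IsOpen O₁ → IsCompact O₁ →
    IsOpen O₂ → IsCompact O₂ → IsCompact (Points.ofPt V.obj.hom ⁻¹' O₁) →
    Elem (etTop X) V (opn O₁) (opn O₂) →
      (∃ l : List (B V), TorsIff V (ovr (opn O₁) V) l) ∧ HasPsi V (ovr (opn O₁) V) ∧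
        HasLift (opn O₁) (opn O₂)

theorem mem_of_LE {X : AlgSp.Sp S} {O₁ O₂ : Set (Points X)} (h : LE (etTop X) (opn O₁) (opn O₂))
    (E : EtOver X) (hE : (opn O₁).mem E) : (opn O₂).mem E := by
  intro x
  obtain ⟨T, hT, hT'⟩ := h E hE
  obtain ⟨E', g, hg, -, y, rfl⟩ := exists_affine E T hT x
  rw [K646.MVSq.ofPt_mor g y]
  exact hT' g hg y

theorem suppP_univ {X : AlgSp.Sp S} (K : DModEt X) : suppP (opn (Set.univ : Set (Points X))) (OEtRing X) K :=
  isIso_iD_top (W := opn (Set.univ : Set (Points X))) (R := OEtRing X)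
    (fun _ => ⟨⊤, GrothendieckTopology.top_mem _ _, fun E' _ _ => mem_opn_univ E'⟩) K

theorem app_univ [QuasiSeparatedSpace ↥S] (X : AlgSp.Space S) (hXc : AlgSp.IsQuasiCompactSp X.obj)
    (hXs : AlgSp.IsQuasiSeparatedSp X.obj) (hin : Inputs X.obj) (K : DModEt X.obj)
    (hK : ∀ (E : EtOver X.obj) (_ : IsAffine E.obj.left.left) (m : ℤ), PcAt m K E) (m : ℤ) :
    ∃ (P : DModEt X.obj) (α : P ⟶ K), IsPerfectEtD P ∧ PCD m α := by
  have h := K290.Ind.ind X hXc hXs (fun O =>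
    (∀ K, PsO (opn O) K → ∃ b : ℤ, Lt b K) ∧ ∀ K, PsO (opn O) K → ∀ m, App (PO (opn O)) K m) ?_ ?_
  · obtain ⟨P, α, hP, hα⟩ := h.2 K ⟨suppP_univ K, fun E hE _ m => hK E hE m⟩ m
    exact ⟨P, α, (isPerfectEtD_iff P).2 fun E hE => hP.2 E hE (mem_opn_univ E), hα⟩
  · have h0 : ∀ K, PsO (opn (∅ : Set (Points X.obj))) K → IsZero K := by
      intro K hK'
      refine isZero_of_isIso_iD hK'.1 (isZero_lD_bot (fun E hE => ?_) _)
      have he : IsEmpty ↥(sch E) := ⟨fun y => hE y⟩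
      exact K646.EtAcyc.bot_mem_of_isEmpty E
    exact ⟨fun K hK' => ⟨0, lt_of_isZero (h0 K hK')⟩, fun K hK' m => app_of_lt (lt_of_isZero (h0 K hK'))⟩
  · intro O₁ O₂ V hO₁ hO₁c hO₂ hO₂c hV hVc H h₁
    have hV' : IsAffine V.obj.left.left := hV
    obtain ⟨⟨l, hT⟩, hPsi, hL⟩ := hin O₁ O₂ V hV' hO₁ hO₁c hO₂ hO₂c hVc H
    exact app_of_elem H (mem_of_LE H.le) hT hPsi hL h₁

theorem exactNat (A : Type (u + 2)) [Category.{u + 1} A] [Abelian A] [IsGrothendieckAbelian.{u + 1} A] :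
    HasExactColimitsOfShape ℕ A := by
  have : AB5OfSize.{0, 0} A := AB5OfSize_of_univLE.{0, 0, u + 1, u + 1} A
  infer_instance

theorem exactDiscreteNat (A : Type (u + 2)) [Category.{u + 1} A] [Abelian A] [IsGrothendieckAbelian.{u + 1} A] :
    HasExactColimitsOfShape (Discrete ℕ) A := by
  have : AB4OfSize.{u + 1} A := inferInstance
  have : AB4OfSize.{0} A := inferInstance
  infer_instance

/-- Pseudo-coherence is detected by approximations. -/
theorem isPseudoCoherentEtD_of_pcd {X : AlgSp.Sp S} {P K : DModEt X} (hP : IsPerfectEtD P) (α : P ⟶ K) {m : ℤ}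
    (hα : PCD m α) : IsPseudoCoherentEtD m K := by
  intro U
  obtain ⟨ι, V, g, hg, hV⟩ := hP U
  refine ⟨ι, V, g, hg, fun k => ?_⟩
  obtain ⟨C, hC, ⟨e⟩⟩ := hV k
  have h1 : PCD m (e.inv ≫ (resDEt (V k)).map α) :=
    pcd_comp (pcd_of_isIso m _) (PCD.map (resModEt (V k)) hα)
  exact ⟨C, e.inv ≫ (resDEt (V k)).map α, hC, h1.1, h1.2⟩

theorem hocolim_iff [QuasiSeparatedSpace ↥S] (X : AlgSp.Space S)
    (hXc : AlgSp.IsQuasiCompactSp X.obj) (hXs : AlgSp.IsQuasiSeparatedSp X.obj)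
    [HasColimitsOfShape (Discrete ℕ) (AlgSp.DModEt X.obj)] (hin : Inputs X.obj) (K : AlgSp.DModEt X.obj) :
    AlgSp.IsPseudoCoherentAllEtD K ↔
      ∃ (E : ℕ → AlgSp.DModEt X.obj) (f : ∀ n, E n ⟶ E (n + 1)) (i : ∀ n, E n ⟶ K),
        (∀ n, AlgSp.IsPerfectEtD (E n)) ∧ DerLim.IsHocolim E f K i ∧
        ∀ n : ℕ, IsIso (((DerivedCategory.TStructure.t :
          CategoryTheory.Triangulated.TStructure (AlgSp.DModEt X.obj)).truncGE (-(n : ℤ))).map (i n)) := by
  constructor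
  · intro hK
    have hq : DCoh.IsQCohDMod (OEtRing X.obj) K := fun i =>
      Groth.Agent.S10771.result X (i - 1) K (hK (i - 1)) i (by lia)
    have hK' : PsO (opn (Set.univ : Set (Points X.obj))) K :=
      ⟨suppP_univ K, fun E hE _ m => (isPseudoCoherentEtD_iff m K hq).1 (hK m) E hE⟩
    have happ : ∀ (m : ℤ) (E : DModEt X.obj), PsO (opn (Set.univ : Set (Points X.obj))) E →
        ∃ (P : DModEt X.obj) (α : P ⟶ E), PO (opn (Set.univ : Set (Points X.obj))) P ∧
          (∀ i : ℤ, m < i → IsIso ((DerivedCategory.homologyFunctor (ModEt X.obj) i).map α)) ∧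
            Epi ((DerivedCategory.homologyFunctor (ModEt X.obj) m).map α) := by
      intro m E hE
      obtain ⟨P, α, hP, hα⟩ := app_univ X hXc hXs hin E (fun U hU m => hE.2 U hU (mem_opn_univ U) m) m
      exact ⟨P, α, ⟨suppP_univ P, fun U hU _ => (isPerfectEtD_iff P).1 hP U hU⟩, hα.1, hα.2⟩
    obtain ⟨F, i, hF, hi, hiso⟩ := Groth.Agent.PerfA.ApproxTower.exists_tower
      (A := ModEt X.obj) (PO (opn (Set.univ : Set (Points X.obj))))
      (PsO (opn (Set.univ : Set (Points X.obj))))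
      (fun T hT h1 h3 => (PO (opn Set.univ)).ext_of_isTriangulatedClosed₂ T hT h1 h3)
      (fun T hT h1 h2 => (PsO (opn Set.univ)).ext_of_isTriangulatedClosed₃ T hT (PO_le_PsO _ _ h1) h2)
      happ hK'
    have := K646.Inst.isGrothendieckAbelian X.obj
    have i1 : HasExactColimitsOfShape ℕ (ModEt X.obj) := exactNat (ModEt X.obj)
    have i2 : HasExactColimitsOfShape (Discrete ℕ) (ModEt X.obj) := exactDiscreteNat (ModEt X.obj)
    have i3 : ∀ m : ℤ, PreservesColimitsOfShape (Discrete ℕ)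
        (DerivedCategory.homologyFunctor (ModEt X.obj) m) := fun m =>
      Groth.Agent.CohtopB.DCoprod.preservesColimitsOfShape_homologyFunctor_derivedCategory
        (A := AlgSp.ModEt X.obj) (ι := ℕ) m
    refine ⟨F.obj, Groth.Agent.PerfA.Hocolim.tr F, i, fun n => (isPerfectEtD_iff _).2 fun U hU =>
      (hF n).2 U hU (mem_opn_univ U), ?_, fun n => ?_⟩
    · exact Groth.Agent.PerfA.ApproxTower.isHocolim_of_eventually_isIso F i hi fun m =>
        ⟨(-m).toNat, fun n hn => hiso n m (by lia)⟩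
    · exact (Groth.Agent.PerfA.TriFive.isIso_truncGE_map_iff (i n) _).2 fun m hm => hiso n m hm
  · rintro ⟨E, f, i, hE, -, h⟩ m
    have h1 := (Groth.Agent.PerfA.TriFive.isIso_truncGE_map_iff (i (-m).toNat) _).1 (h (-m).toNat)
    have h2 := h1 m (by lia)
    exact isPseudoCoherentEtD_of_pcd (hE (-m).toNat) (i (-m).toNat) ⟨fun j hj => h1 j (by lia), inferInstance⟩

end K294.Final
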