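import Groth.Agent.CohtopA.DerProd
import Groth.Agent.PerfA.ProjHom

/-!
# Lifting to cycles of K-injective complexes, left exact functors
-/

set_option autoImplicit false

universe w v u w' v' u'

open CategoryTheory CategoryTheory.Limits DerivedCategory CochainComplex.HomComplex

namespace K294.KInjCyc

variable {C : Type u} [Category.{v} C]

theorem formal {G H1 H2 H3 H4 Z : C} (f : H1 ≅ H2) (e : H3 ≅ H4) (s : H1 ≅ G) (t : G ≅ H2) (m : H1 ⟶ H3)
    (m' : H2 ⟶ H4) (h : m ≫ e.hom = f.hom ≫ m') (x : G ⟶ H4) (hm : m = s.hom ≫ x ≫ e.inv)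
    (z : G ⟶ Z) (π : Z ⟶ H4) (hz : z ≫ π = t.hom ≫ m') : ∃ z' : G ⟶ Z, z' ≫ π = x := by
  have h4 : m' = f.inv ≫ s.hom ≫ x := by
    rw [← cancel_epi f.hom, ← h, hm]
    simp
  let a : G ≅ G := t ≪≫ f.symm ≪≫ s
  refine ⟨a.inv ≫ z, ?_⟩
  rw [Category.assoc, hz, h4]
  simp [a]

theorem formal' {c₁ c₂ h₁ h₂ G : C} (p : c₁ ⟶ h₁) (p' : c₂ ⟶ h₂) (k : c₁ ⟶ c₂) (m : h₁ ⟶ h₂)
    (w : p ≫ m = k ≫ p') (c : G ⟶ c₁) (t : G ≅ h₁) (ht : t.hom = c ≫ p) :
    (c ≫ k) ≫ p' = t.hom ≫ m := by
  rw [ht, Category.assoc, Category.assoc, w]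

variable [Abelian C]

theorem exists_single_data (G : C) (q : ℤ) :
    ∃ (c : G ⟶ ((CochainComplex.singleFunctor C q).obj G).cycles q)
      (t : G ≅ ((CochainComplex.singleFunctor C q).obj G).homology q),
      t.hom = c ≫ ((CochainComplex.singleFunctor C q).obj G).homologyπ q := by
  refine ⟨(HomologicalComplex.singleObjCyclesSelfIso (ComplexShape.up ℤ) q G).inv,
    (HomologicalComplex.singleObjHomologySelfIso (ComplexShape.up ℤ) q G).symm, ?_⟩
  change (HomologicalComplex.singleObjHomologySelfIso (ComplexShape.up ℤ) q G).inv =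
    (HomologicalComplex.singleObjCyclesSelfIso (ComplexShape.up ℤ) q G).inv ≫
      HomologicalComplex.homologyπ ((HomologicalComplex.single C (ComplexShape.up ℤ) q).obj G) q
  rw [← cancel_mono (HomologicalComplex.singleObjHomologySelfIso (ComplexShape.up ℤ) q G).hom]
  simp

/-- A chain map out of `G[-q]` is a map to the cycles. -/
theorem exists_cycles (G : C) (q : ℤ) (I : CochainComplex C ℤ)
    (g : (CochainComplex.singleFunctor C q).obj G ⟶ I) :
    ∃ (z : G ⟶ I.cycles q) (t : G ≅ ((CochainComplex.singleFunctor C q).obj G).homology q),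
      z ≫ I.homologyπ q = t.hom ≫ HomologicalComplex.homologyMap g q := by
  obtain ⟨c, t, ht⟩ := exists_single_data G q
  exact ⟨c ≫ HomologicalComplex.cyclesMap g q, t, formal' _ _ _ _
    (HomologicalComplex.homologyπ_naturality g q) c t ht⟩

variable [HasDerivedCategory.{w} C]

/-- If `Hom(G[-q], I) → Hom(G, H^q I)` is surjective for a K-injective `I`, maps to the cohomology lift to the
cycles. -/
theorem exists_lift_cycles (I : CochainComplex C ℤ) [I.IsKInjective] (G : C) (q : ℤ)
    (hs : Function.Surjective (fun φ : (singleFunctor C q).obj G ⟶ Q.obj I =>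
      (homologyFunctor C q).map φ)) (x : G ⟶ I.homology q) :
    ∃ z : G ⟶ I.cycles q, z ≫ I.homologyπ q = x := by
  obtain ⟨φ, hφ⟩ := hs (((singleFunctorCompHomologyFunctorIso C q).app G).hom ≫ x ≫
    ((homologyFunctorFactors C q).app I).inv)
  dsimp only at hφ
  obtain ⟨g, hg⟩ := Groth.Agent.CohtopA.DerProd.Q_map_surjective
    ((CochainComplex.singleFunctor C q).obj G) I φ
  obtain ⟨z, t, hz⟩ := exists_cycles G q I g
  have h2 := (homologyFunctorFactors C q).hom.naturality g
  have h3 : (homologyFunctor C q).map (Q.map g) =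
      ((singleFunctorCompHomologyFunctorIso C q).app G).hom ≫ x ≫
    ((homologyFunctorFactors C q).app I).inv := (congrArg (homologyFunctor C q).map hg).trans hφ
  exact formal ((homologyFunctorFactors C q).app ((CochainComplex.singleFunctor C q).obj G))
    ((homologyFunctorFactors C q).app I) ((singleFunctorCompHomologyFunctorIso C q).app G) t _ _ h2 x h3 z _ hz

end K294.KInjCyc

namespace K294.KInjCyc

variable {C : Type u} [Category.{v} C] [Abelian C] {D : Type u'} [Category.{v'} D] [Abelian D]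
  (F : C ⥤ D) [F.Additive] [PreservesFiniteLimits F]

omit [Abelian D] in
theorem formal'' {X₁ K X₂ L : D} (a : X₁ ⟶ K) (i : K ⟶ X₂) (c : K ≅ L) (j : L ⟶ X₂) (b : X₁ ⟶ L) [Mono j]
    (h1 : c.hom ≫ j = i) (h2 : a ≫ i = b ≫ j) (hb : Epi b) : Epi a := by
  have h : a = b ≫ c.inv := by
    rw [← cancel_mono c.hom, Category.assoc, Iso.inv_hom_id, Category.comp_id, ← cancel_mono j,
      Category.assoc, h1, h2]
  rw [h]
  exact epi_comp _ _

/-- If `F` is left exact and `F(S)` is exact, then `F` kills the map from cycles to homology. -/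
theorem map_homologyπ_eq_zero (S : ShortComplex C) (h : (S.map F).Exact) : F.map S.homologyπ = 0 := by
  have w : F.map S.iCycles ≫ (S.map F).g = 0 := by
    change F.map S.iCycles ≫ F.map S.g = 0
    rw [← F.map_comp, S.iCycles_g, F.map_zero]
  let hk : IsLimit (KernelFork.ofι (F.map S.iCycles) w) :=
    KernelFork.mapIsLimit _ S.cyclesIsKernel F
  let c : F.obj S.cycles ≅ (S.map F).cycles := hk.conePointUniqueUpToIso (S.map F).cyclesIsKernel
  have hc : c.hom ≫ (S.map F).iCycles = F.map S.iCycles :=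
    hk.conePointUniqueUpToIso_hom_comp (S.map F).cyclesIsKernel WalkingParallelPair.zero
  have h1 : F.map S.toCycles ≫ F.map S.iCycles = (S.map F).toCycles ≫ (S.map F).iCycles := by
    have h1' : F.map S.toCycles ≫ F.map S.iCycles = F.map S.f := by
      rw [← F.map_comp, S.toCycles_i]
    rw [h1']
    exact (ShortComplex.toCycles_i (S.map F)).symm
  have h2 : Epi (S.map F).toCycles := h.epi_toCycles
  have h3 : Epi (F.map S.toCycles) := formal'' _ _ c _ _ hc h1 h2
  rw [← cancel_epi (F.map S.toCycles), ← F.map_comp, S.toCycles_comp_homologyπ, F.map_zero, comp_zero]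

end K294.KInjCyc
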