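import Groth.Agent.AlgSp.K290.DIdem
import Mathlib.CategoryTheory.Triangulated.Subcategory

/-!
# Elementary squares: extension of maps on derived categories
-/

set_option autoImplicit false
set_option linter.unusedSectionVars false
universe u

open CategoryTheory CategoryTheory.Limits Opposite Pretriangulated

attribute [local instance] HasDerivedCategory.standard

namespace K294.MapExt
open K645.Ex K645.Lam K645.Shriek K645.Square K290.DId K290.DIdem Groth.Agent.PerfA.ExactD

variable {C : Type (u + 1)} [Category.{u} C] {J : GrothendieckTopology C} {R : Sheaf J RingCat.{u + 1}}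
  {V : C} {U W : Opn C}
  [HasSheafify J AddCommGrpCat.{u + 1}] [J.WEqualsLocallyBijective AddCommGrpCat.{u + 1}]

/-- The objects supported in the open `W` (extended by zero from `W`). -/
def suppP (W : Opn C) (R : Sheaf J RingCat.{u + 1}) : ObjectProperty (DR R) := fun K => IsIso ((iD W R).app K)

/-- The objects vanishing on the open `U`. -/
def vanP (U : Opn C) (R : Sheaf J RingCat.{u + 1}) : ObjectProperty (DR R) := fun K => IsZero ((lD U R).obj K)

instance : (vanP U R).IsClosedUnderIsomorphisms where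
  of_iso e h := IsZero.of_iso h ((lD U R).mapIso e.symm)

open ZeroObject in
instance : (vanP U R).IsTriangulated where
  exists_zero := ⟨0, isZero_zero _, (lD U R).map_isZero (isZero_zero _)⟩
  isStableUnderShiftBy n := ⟨fun K hK =>
    IsZero.of_iso ((shiftFunctor (DR R) n).map_isZero hK) (((lD U R).commShiftIso n).app K)⟩
  ext₂' T hT h₁ h₃ := ObjectProperty.le_isoClosure _ _
    (Triangle.isZero₂_of_isZero₁₃ _ ((lD U R).map_distinguished T hT) h₁ h₃)

instance : (suppP W R).IsClosedUnderIsomorphisms where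
  of_iso e h := isIso_iD_of_iso W e h

/-- Retracts. -/
theorem suppP_of_retract {K L : DR R} (i : K ⟶ L) (r : L ⟶ K) (h : i ≫ r = 𝟙 K) (hL : suppP W R L) :
    suppP W R K := by
  have : IsIso ((iD W R).app L) := hL
  have h1 : (lD W R).map i ≫ (lD W R).map r = 𝟙 _ := by
    rw [← Functor.map_comp, h, CategoryTheory.Functor.map_id]
  refine ⟨i ≫ inv ((iD W R).app L) ≫ (lD W R).map r, ?_, ?_⟩
  · have h2 := lD_map_iD W i
    calc (iD W R).app K ≫ i ≫ inv ((iD W R).app L) ≫ (lD W R).map r =
        ((iD W R).app K ≫ i) ≫ inv ((iD W R).app L) ≫ (lD W R).map r := by rw [Category.assoc]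
      _ = 𝟙 _ := by rw [← h2, Category.assoc, IsIso.hom_inv_id_assoc, h1]
  · rw [Category.assoc, Category.assoc, lD_map_iD, IsIso.inv_hom_id_assoc, h]
    rfl

/-- The third vertex of a triangle `lD W K ⟶ K ⟶ Z` vanishes on `W`. -/
theorem vanP_cone {K Z : DR R} {p : K ⟶ Z} {q : Z ⟶ ((lD W R).obj K)⟦(1 : ℤ)⟧}
    (hT : Triangle.mk ((iD W R).app K) p q ∈ distTriang (DR R)) : vanP W R Z := by
  have h := (lD W R).map_distinguished _ hT
  have h1 : IsIso ((lD W R).map ((iD W R).app K)) := isIso_lD_map_iD_self K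
  exact (Triangle.isZero₃_iff_isIso₁ _ h).2 h1

theorem suppP_ext₂ {T : Triangle (DR R)} (hT : T ∈ distTriang (DR R)) (h₁ : suppP W R T.obj₁)
    (h₃ : suppP W R T.obj₃) : suppP W R T.obj₂ := by
  obtain ⟨Z, p, q, hZ⟩ := distinguished_cocone_triangle ((iD W R).app T.obj₂)
  have hv : vanP W R Z := vanP_cone hZ
  have h4 : p = 0 := by
    obtain ⟨ψ, hψ⟩ := Triangle.yoneda_exact₂ T hT p (eq_zero h₁ hv _)
    rw [hψ, eq_zero h₃ hv ψ, comp_zero]
  obtain ⟨s, hs⟩ := Triangle.coyoneda_exact₂ _ hZ (𝟙 T.obj₂) (by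
    change 𝟙 T.obj₂ ≫ p = 0
    rw [h4, comp_zero])
  exact suppP_of_retract (W := W) s ((iD W R).app T.obj₂) hs.symm (isIso_iD_lD_self _)

open ZeroObject in
instance : (suppP W R).IsTriangulated where
  exists_zero := ⟨0, isZero_zero _, by
    have h1 : IsZero ((lD W R).obj 0) := (lD W R).map_isZero (isZero_zero _)
    exact ⟨0, h1.eq_of_src _ _, (isZero_zero _).eq_of_src _ _⟩⟩
  isStableUnderShiftBy n := ⟨fun K hK => by
    have h1 := (isIso_iD_iff W K).1 hK
    refine (isIso_iD_iff W _).2 fun m => ?_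
    exact isIso_inc_of_iso W
      (((DerivedCategory.homologyFunctor (SheafOfModules.{u + 1} R) 0).shiftIso n m (n + m) rfl).app K).symm
      (h1 (n + m))⟩
  ext₂' T hT h₁ h₃ := ObjectProperty.le_isoClosure _ _ (suppP_ext₂ hT h₁ h₃)

section Elem

variable (H : Elem J V U W)
include H

/-- (E1) Maps out of an object supported in `W` and vanishing on `U` are determined on `V`. -/
theorem eq_zero_of_rD {Z K : DR R} (hW : suppP W R Z) (hU : vanP U R Z) (f : Z ⟶ K)
    (h : (rD R V).map f = 0) : f = 0 := by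
  have := isIso_counit H hW hU
  rw [← cancel_epi ((adjSR R V).counit.app Z), comp_zero]
  have h1 := (adjSR R V).counit.naturality f
  dsimp only [Functor.comp_map, Functor.id_map, Functor.id_obj] at h1
  rw [← h1, h, Functor.map_zero, zero_comp]

/-- (E2) Maps to an object of the slice vanishing over `U` extend. -/
theorem exists_lift_rD {K : DR R} (hK : suppP W R K) {T' : DR (R.over V)} (hT' : vanP (ovr U V) (R.over V) T')
    (c : (rD R V).obj K ⟶ T') :
    ∃ c' : K ⟶ (sD R V).obj T', (rD R V).map c' = c ≫ (adjSR R V).unit.app T' := by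
  obtain ⟨Z, p, q, hZ⟩ := distinguished_cocone_triangle ((iD U R).app K)
  have hv : vanP U R Z := vanP_cone hZ
  have hs : suppP W R Z := (suppP W R).ext_of_isTriangulatedClosed₃ _ hZ (isIso_iD_lD H.le K) hK
  have := isIso_counit H hs hv
  have h0 : (rD R V).map ((iD U R).app K) ≫ c = 0 := eq_zero (isIso_iD_rD_lD U K) hT' _
  obtain ⟨c₁, hc₁⟩ : ∃ c₁ : (rD R V).obj Z ⟶ T', c = (rD R V).map p ≫ c₁ :=
    Triangle.yoneda_exact₂ _ ((rD R V).map_distinguished _ hZ) c h0
  refine ⟨p ≫ inv ((adjSR R V).counit.app Z) ≫ (sD R V).map c₁, ?_⟩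
  have h1 : (adjSR R V).unit.app ((rD R V).obj Z) ≫ (rD R V).map ((adjSR R V).counit.app Z) = 𝟙 _ :=
    (adjSR R V).right_triangle_components Z
  have h2 : (rD R V).map (inv ((adjSR R V).counit.app Z)) = (adjSR R V).unit.app ((rD R V).obj Z) := by
    rw [Functor.map_inv, IsIso.inv_eq_of_inv_hom_id h1]
  have h3 := (adjSR R V).unit.naturality c₁
  dsimp only [Functor.comp_map, Functor.id_map] at h3
  rw [Functor.map_comp, Functor.map_comp, h2, ← h3, hc₁, Category.assoc]

/-- (E3) Maps out of an object supported in `W` given on `U` extend when they extend on `V`. -/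
theorem exists_ext {Q K : DR R} (hQ : suppP W R Q) (a : (lD U R).obj Q ⟶ K)
    (b : (rD R V).obj Q ⟶ (rD R V).obj K)
    (hab : (rD R V).map a = (rD R V).map ((iD U R).app Q) ≫ b) :
    ∃ β : Q ⟶ K, (iD U R).app Q ≫ β = a := by
  obtain ⟨Z, z, q, hZ⟩ := distinguished_cocone_triangle₁ ((iD U R).app Q)
  have hv : vanP U R Z :=
    (Triangle.isZero₁_iff_isIso₂ _ ((lD U R).map_distinguished _ hZ)).2 (isIso_lD_map_iD_self Q)
  have hs : suppP W R Z := (suppP W R).ext_of_isTriangulatedClosed₁ _ hZ (isIso_iD_lD H.le Q) hQ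
  have h1 : z ≫ a = 0 := by
    refine eq_zero_of_rD H hs hv _ ?_
    have h2 : z ≫ (iD U R).app Q = 0 := comp_distTriang_mor_zero₁₂ _ hZ
    rw [Functor.map_comp, hab, ← Category.assoc, ← Functor.map_comp, h2, Functor.map_zero, zero_comp]
  obtain ⟨β, hβ⟩ := Triangle.yoneda_exact₂ _ hZ a h1
  exact ⟨β, hβ.symm⟩

end Elem

end K294.MapExt
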