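import Groth.Agent.AlgSp.K294.GlueOn

/-!
# Elementary squares: lifting morphisms defined on the open part
-/

set_option autoImplicit false
set_option linter.unusedSectionVars false
universe u

open CategoryTheory CategoryTheory.Limits Opposite Pretriangulated AlgebraicGeometry

attribute [local instance] HasDerivedCategory.standard

namespace K294.MapLift
open K645.Ex K645.Lam K645.Shriek K645.Square K290.DId K290.DIdem Groth.Agent.PerfA.ExactD K294.MapExt
  Groth.Agent.PerfA.PCMap K294.AppAbs K294.GlueOn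

section general

variable {C : Type (u + 1)} [Category.{u} C] {J : GrothendieckTopology C} {R : Sheaf J RingCat.{u + 1}}
  {V : C} {U W : Opn C}
  [HasSheafify J AddCommGrpCat.{u + 1}] [J.WEqualsLocallyBijective AddCommGrpCat.{u + 1}]

variable (U V) in
/-- `j_! j^* f^* ≅ f^* j_! j^*`. -/
noncomputable def phi (Q : DR R) :
    (lD (ovr U V) (R.over V)).obj ((rD R V).obj Q) ⟶ (rD R V).obj ((lD U R).obj Q) :=
  haveI := isIso_lD_map_rD_map_iD (V := V) U Q
  inv ((lD (ovr U V) (R.over V)).map ((rD R V).map ((iD U R).app Q))) ≫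
    (iD (ovr U V) (R.over V)).app ((rD R V).obj ((lD U R).obj Q))

instance (Q : DR R) : IsIso (phi V U Q) := by
  have := isIso_iD_rD_lD (V := V) U Q
  unfold phi
  exact inferInstance

theorem phi_iD (Q : DR R) : phi V U Q ≫ (rD R V).map ((iD U R).app Q) =
    (iD (ovr U V) (R.over V)).app ((rD R V).obj Q) := by
  have := isIso_lD_map_rD_map_iD (V := V) U Q
  have h4 : (lD (ovr U V) (R.over V)).map ((rD R V).map ((iD U R).app Q)) ≫
      (iD (ovr U V) (R.over V)).app ((rD R V).obj Q) =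
      (iD (ovr U V) (R.over V)).app ((rD R V).obj ((lD U R).obj Q)) ≫ (rD R V).map ((iD U R).app Q) :=
    lD_map_iD (ovr U V) ((rD R V).map ((iD U R).app Q))
  unfold phi
  rw [Category.assoc, ← h4, IsIso.inv_hom_id_assoc]

theorem phi_nat {Q Q' : DR R} (f : Q ⟶ Q') : phi V U Q ≫ (rD R V).map ((lD U R).map f) =
    (lD (ovr U V) (R.over V)).map ((rD R V).map f) ≫ phi V U Q' := by
  have i1 := isIso_lD_map_rD_map_iD (V := V) U Q
  have i2 := isIso_lD_map_rD_map_iD (V := V) U Q'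
  have h1 := lD_map_iD (ovr U V) ((rD R V).map ((lD U R).map f))
  unfold phi
  rw [Category.assoc, ← h1, ← Category.assoc, ← Category.assoc]
  congr 1
  rw [IsIso.eq_comp_inv, Category.assoc, IsIso.inv_comp_eq, ← Functor.map_comp, ← Functor.map_comp,
    ← Functor.map_comp, ← Functor.map_comp, lD_map_iD]

theorem rD_map_hat {T : DR (R.over V)} {K : DR R} (γ : T ⟶ (rD R V).obj K)
    [IsIso ((adjSR R V).unit.app T)] :
    (rD R V).map ((sD R V).map γ ≫ (adjSR R V).counit.app K) = inv ((adjSR R V).unit.app T) ≫ γ := by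
  have h2 : γ ≫ (adjSR R V).unit.app ((rD R V).obj K) =
      (adjSR R V).unit.app T ≫ (rD R V).map ((sD R V).map γ) := (adjSR R V).unit.naturality γ
  have h3 : (adjSR R V).unit.app ((rD R V).obj K) ≫ (rD R V).map ((adjSR R V).counit.app K) = 𝟙 _ :=
    (adjSR R V).right_triangle_components K
  rw [IsIso.eq_inv_comp, Functor.map_comp, ← Category.assoc, ← h2, Category.assoc, h3]
  exact Category.comp_id _

section Elem

variable (H : Elem J V U W)
include H

/-- Lifting of maps defined on the open part of an elementary square. -/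
theorem exists_lift_map {Q₀ K : DR R} (hQ₀ : suppP W R Q₀) (a : (lD U R).obj Q₀ ⟶ K)
    {T₁ T' : DR (R.over V)} (t : T₁ ⟶ (rD R V).obj Q₀) (c : (rD R V).obj Q₀ ⟶ T') (d : T' ⟶ T₁⟦(1 : ℤ)⟧)
    (hT : Triangle.mk t c d ∈ distTriang _) (hT' : vanP (ovr U V) (R.over V) T')
    (b : T₁ ⟶ (rD R V).obj K)
    (hb : (lD (ovr U V) (R.over V)).map t ≫ phi V U Q₀ ≫ (rD R V).map a =
      (iD (ovr U V) (R.over V)).app T₁ ≫ b) :
    ∃ (Q : DR R) (q : Q ⟶ Q₀) (c' : Q₀ ⟶ (sD R V).obj T') (d' : (sD R V).obj T' ⟶ Q⟦(1 : ℤ)⟧) (β : Q ⟶ K),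
      Triangle.mk q c' d' ∈ distTriang _ ∧ IsIso ((lD U R).map q) ∧
        (lD U R).map q ≫ a = (iD U R).app Q ≫ β := by
  obtain ⟨c', hc'⟩ := exists_lift_rD H hQ₀ hT' c
  obtain ⟨Q, q, d', hQ⟩ := distinguished_cocone_triangle₁ c'
  have hv : vanP U R ((sD R V).obj T') := isZero_lD_sD U hT'
  have hs : suppP W R ((sD R V).obj T') := isIso_iD_W H T'
  have hQs : suppP W R Q := (suppP W R).ext_of_isTriangulatedClosed₁ _ hQ hQ₀ hs
  have hq : IsIso ((lD U R).map q) :=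
    (Triangle.isZero₃_iff_isIso₁ _ ((lD U R).map_distinguished _ hQ)).1 hv
  have hu := isIso_unit H hT'
  -- comparison of the triangles over `V`
  have hQ' : Triangle.mk ((rD R V).map q) ((rD R V).map c')
      ((rD R V).map d' ≫ ((rD R V).commShiftIso (1 : ℤ)).hom.app Q) ∈ distTriang _ :=
    (rD R V).map_distinguished _ hQ
  have hc'' : c ≫ (adjSR R V).unit.app T' = 𝟙 _ ≫ (rD R V).map c' := by
    rw [Category.id_comp, hc']
  obtain ⟨θ, hθ, hθ'⟩ : ∃ θ : T₁ ⟶ (rD R V).obj Q, t ≫ 𝟙 _ = θ ≫ (rD R V).map q ∧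
      d ≫ θ⟦(1 : ℤ)⟧' = (adjSR R V).unit.app T' ≫
        ((rD R V).map d' ≫ ((rD R V).commShiftIso (1 : ℤ)).hom.app Q) :=
    complete_distinguished_triangle_morphism₁ _ _ hT hQ' (𝟙 _) ((adjSR R V).unit.app T') hc''
  have hθi : IsIso θ := isIso₁_of_isIso₂₃ (Triangle.homMk (Triangle.mk t c d)
    (Triangle.mk ((rD R V).map q) ((rD R V).map c')
      ((rD R V).map d' ≫ ((rD R V).commShiftIso (1 : ℤ)).hom.app Q)) θ (𝟙 _)
    ((adjSR R V).unit.app T') hθ hc'' hθ') hT hQ' (inferInstanceAs (IsIso (𝟙 _))) hu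
  rw [Category.comp_id] at hθ
  have hθ2 : inv θ ≫ t = (rD R V).map q := by rw [hθ, IsIso.inv_hom_id_assoc]
  obtain ⟨β, hβ⟩ := exists_ext H hQs ((lD U R).map q ≫ a) (inv θ ≫ b) (by
    rw [← cancel_epi (phi V U Q), Functor.map_comp, ← Category.assoc, phi_nat, ← Category.assoc,
      phi_iD, Category.assoc, ← hθ2, Functor.map_comp, Category.assoc, hb]
    rw [← Category.assoc, ← Category.assoc, lD_map_iD])
  exact ⟨Q, q, c', d', β, hQ, hq, hβ.symm⟩

end Elem

end general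

theorem dist_of_iso₂ {D : Type*} [Category D] [HasZeroObject D] [HasShift D ℤ] [Preadditive D]
    [∀ n : ℤ, (shiftFunctor D n).Additive] [Pretriangulated D] {A B B' Z : D} {f : A ⟶ B} {g : B ⟶ Z}
    {h : Z ⟶ A⟦(1 : ℤ)⟧} (hT : Triangle.mk f g h ∈ distTriang D) (e : B ≅ B') :
    Triangle.mk (f ≫ e.hom) (e.inv ≫ g) h ∈ distTriang D :=
  isomorphic_distinguished _ hT _ (Triangle.isoMk _ _ (Iso.refl _) e.symm (Iso.refl _)
    (by
      change (f ≫ e.hom) ≫ e.inv = 𝟙 A ≫ f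
      simp)
    (by
      change (e.inv ≫ g) ≫ 𝟙 Z = e.inv ≫ g
      simp)
    (by
      change h ≫ (𝟙 A)⟦(1 : ℤ)⟧' = 𝟙 Z ≫ h
      simp))

section aff

open AlgSp K646.EtSite K645.TE K645.Int K290.ElemSq K294.PcInt K294.AppRing Groth.Agent.PerfC.KosFactor

variable {S : Scheme.{u}} {X : AlgSp.Sp S}

/-- Vanishing on the open `W'` is torsion with respect to `l`. -/
def TorsIff (V : EtOver X) [IsAffine V.obj.left.left] (W' : Opn (Over V)) (l : List (B V)) : Prop :=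
  ∀ N : ModuleCat.{u + 1} (B V), IsZero ((lam W' ((OEtRing X).over V)).obj ((tE V).obj N)) ↔
    ∀ f ∈ l, ∀ n : N, ∃ k : ℕ, f ^ k • n = 0

/-- Maps `j_! j^* M ⟶ N` for `M`, `N` quasi-coherent on an affine object are represented by an object of
the derived category of modules. -/
def HasPsi (V : EtOver X) [IsAffine V.obj.left.left] (W' : Opn (Over V)) : Prop :=
  ∀ N : Dual.D (B V), ∃ (R : Dual.D (B V)) (η : N ⟶ R)
    (ε : (lD W' ((OEtRing X).over V)).obj ((TD V).obj R) ⟶ (TD V).obj N),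
    IsIso ((lD W' ((OEtRing X).over V)).map ((TD V).map η)) ∧
    (lD W' ((OEtRing X).over V)).map ((TD V).map η) ≫ ε = (iD W' ((OEtRing X).over V)).app ((TD V).obj N) ∧
    ∀ (M : Dual.D (B V)) (a : (lD W' ((OEtRing X).over V)).obj ((TD V).obj M) ⟶ (TD V).obj N),
      ∃ a' : M ⟶ R, (lD W' ((OEtRing X).over V)).map ((TD V).map a') ≫ ε = a

variable {V : EtOver X} [hVa : IsAffine V.obj.left.left] {W' : Opn (Over V)} {l : List (B V)}

theorem TorsIff.tors (hT : TorsIff V W' l) {M : Dual.D (B V)} {i : ℤ}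
    (h : IsZero ((DerivedCategory.homologyFunctor _ i).obj
      ((lD W' ((OEtRing X).over V)).obj ((TD V).obj M)))) : ∀ f ∈ l, Tors f M i := by
  intro f hf
  refine (hT ((DerivedCategory.homologyFunctor _ i).obj M)).1 ?_ f hf
  exact h.of_iso ((mapHomology (lam W' ((OEtRing X).over V)) i).app ((TD V).obj M) ≪≫
    (lam W' ((OEtRing X).over V)).mapIso ((mapHomology (tE V) i).app M)).symm

theorem TorsIff.vanP_iff (hT : TorsIff V W' l) (M : Dual.D (B V)) :
    vanP W' ((OEtRing X).over V) ((TD V).obj M) ↔ ∀ f ∈ l, ∀ i : ℤ, Tors f M i := by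
  constructor
  · intro h f hf i
    exact hT.tors ((DerivedCategory.homologyFunctor _ i).map_isZero h) f hf
  · intro h
    refine (isZero_lD_iff W' _).2 fun i => ?_
    exact ((hT ((DerivedCategory.homologyFunctor _ i).obj M)).2 fun f hf => h f hf i).of_iso
      ((lam W' ((OEtRing X).over V)).mapIso ((mapHomology (tE V) i).app M))

/-- Maps `j_! j^* M₀ ⟶ N` extend after composition with a map to `M₀` with torsion cone. -/
theorem exists_factor_van (hT : TorsIff V W' l) (hPsi : HasPsi V W') (M₀ N : Dual.D (B V))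
    (hM₀ : DRing.IsPerfect (B V) M₀)
    (a : (lD W' ((OEtRing X).over V)).obj ((TD V).obj M₀) ⟶ (TD V).obj N) :
    ∃ (M₁ C' : Dual.D (B V)) (t : M₁ ⟶ M₀) (c : M₀ ⟶ C') (d : C' ⟶ M₁⟦(1 : ℤ)⟧) (b : M₁ ⟶ N),
      Triangle.mk t c d ∈ distTriang _ ∧ PT l C' ∧
      (lD W' ((OEtRing X).over V)).map ((TD V).map t) ≫ a =
        (iD W' ((OEtRing X).over V)).app ((TD V).obj M₁) ≫ (TD V).map b := by
  obtain ⟨R, η, ε, h1, h2, h3⟩ := hPsi N
  obtain ⟨a', ha'⟩ := h3 M₀ a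
  obtain ⟨C, p, q, hC⟩ := distinguished_cocone_triangle η
  have hCv : vanP W' ((OEtRing X).over V) ((TD V).obj C) :=
    (Triangle.isZero₃_iff_isIso₁ _
      ((lD W' ((OEtRing X).over V)).map_distinguished _ ((TD V).map_distinguished _ hC))).2 h1
  obtain ⟨C', c, c₂, hC', hcc⟩ := exists_factor_PT l M₀ C hM₀ ((hT.vanP_iff C).1 hCv) (a' ≫ p)
  obtain ⟨M₁, t, d, hM₁⟩ := distinguished_cocone_triangle₁ c
  have htc : t ≫ c = 0 := comp_distTriang_mor_zero₁₂ _ hM₁
  obtain ⟨b, hb⟩ : ∃ b : M₁ ⟶ N, t ≫ a' = b ≫ η := Triangle.coyoneda_exact₂ _ hC (t ≫ a') (by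
    change (t ≫ a') ≫ p = 0
    rw [Category.assoc, ← hcc, ← Category.assoc, htc, zero_comp])
  refine ⟨M₁, C', t, c, d, b, hM₁, hC', ?_⟩
  rw [← ha', ← Category.assoc, ← Functor.map_comp, ← Functor.map_comp, hb, Functor.map_comp, Functor.map_comp,
    Category.assoc, h2, lD_map_iD]

section elem

variable {O₁ O₂ : Opn (EtOver X)} (H : Elem (etTop X) V O₁ O₂)
include H

/-- Lifting of maps from perfect objects. -/
theorem exists_lift_perf (hT : TorsIff V (ovr O₁ V) l) (hPsi : HasPsi V (ovr O₁ V))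
    {Q₀ K : DModEt X} (hQ₀ : PO O₂ Q₀)
    (hK : ∃ N : Dual.D (B V), Nonempty ((TD V).obj N ≅ (rD (OEtRing X) V).obj K))
    (a : (lD O₁ (OEtRing X)).obj Q₀ ⟶ K) :
    ∃ (Q : DModEt X) (q : Q ⟶ Q₀) (β : Q ⟶ K), PO O₂ Q ∧ IsIso ((lD O₁ (OEtRing X)).map q) ∧
      (lD O₁ (OEtRing X)).map q ≫ a = (iD O₁ (OEtRing X)).app Q ≫ β := by
  obtain ⟨N, ⟨eK⟩⟩ := hK
  obtain ⟨M₀, hM₀, ⟨e₀⟩⟩ := hQ₀.2 V hVa H.memV
  let L := lD (ovr O₁ V) ((OEtRing X).over V)
  let e₀' : (TD V).obj M₀ ≅ (rD (OEtRing X) V).obj Q₀ := e₀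
  obtain ⟨M₁, C', t, c, d, b, hM₁, hC', hb⟩ := exists_factor_van hT hPsi M₀ N hM₀
    (L.map e₀'.hom ≫ phi V O₁ Q₀ ≫ (rD (OEtRing X) V).map a ≫ eK.inv)
  have hv : vanP (ovr O₁ V) ((OEtRing X).over V) ((TD V).obj C') := (hT.vanP_iff C').2 hC'.2
  have hdist : Triangle.mk ((TD V).map t ≫ e₀'.hom) (e₀'.inv ≫ (TD V).map c)
      ((TD V).map d ≫ ((TD V).commShiftIso (1 : ℤ)).hom.app M₁) ∈ distTriang _ :=
    dist_of_iso₂ ((TD V).map_distinguished _ hM₁) e₀'
  obtain ⟨Q, q, c', d', β, hQ, hq, hβ⟩ := exists_lift_map H hQ₀.1 a _ _ _ hdist hv ((TD V).map b ≫ eK.hom) (by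
    change L.map ((TD V).map t ≫ e₀'.hom) ≫ _ = _
    rw [← Category.assoc ((iD _ _).app _), ← hb, Functor.map_comp]
    simp only [Category.assoc, Iso.inv_hom_id, Category.comp_id]
    rfl)
  refine ⟨Q, q, β, ?_, hq, hβ⟩
  exact (PO O₂).ext_of_isTriangulatedClosed₁ _ hQ hQ₀ (PO_sD H hv ⟨C', hC'.1, ⟨Iso.refl _⟩⟩)

/-- The approximation when the object is almost torsion. -/
theorem app_base (hT : TorsIff V (ovr O₁ V) l) {K : DModEt X} (hK : PsO O₂ K) {m : ℤ}
    (hKm : Lt (m - l.length) ((lD O₁ (OEtRing X)).obj K)) : App (PO O₂) K m := by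
  obtain ⟨M, hM, ⟨e⟩⟩ := hK.2 V hVa H.memV m
  let e' : (TD V).obj M ≅ (rD (OEtRing X) V).obj K := e
  have htors : ∀ f ∈ l, ∀ i : ℤ, m - l.length + 1 ≤ i → Tors f M i := by
    intro f hf i hi
    refine hT.tors ?_ f hf
    have h1 : IsZero ((DerivedCategory.homologyFunctor _ i).obj
        ((lD (ovr O₁ V) ((OEtRing X).over V)).obj ((rD (OEtRing X) V).obj K))) :=
      (lt_rD (V := V) hKm i (by lia)).of_iso
        ((DerivedCategory.homologyFunctor _ i).mapIso (asIso (phi V O₁ K)))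
    exact h1.of_iso ((DerivedCategory.homologyFunctor _ i).mapIso
      ((lD (ovr O₁ V) ((OEtRing X).over V)).mapIso e'))
  obtain ⟨P, γ, hP, hγ⟩ := approx l m M hM htors
  have hv : vanP (ovr O₁ V) ((OEtRing X).over V) ((TD V).obj P) := (hT.vanP_iff P).2 hP.2
  let γ' : (TD V).obj P ⟶ (rD (OEtRing X) V).obj K := (TD V).map γ ≫ e'.hom
  have hγ' : PCD m γ' := pcd_comp (PCD.map (tE V) hγ) (pcd_of_isIso m _)
  let β : (sD (OEtRing X) V).obj ((TD V).obj P) ⟶ K :=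
    (sD (OEtRing X) V).map γ' ≫ (adjSR (OEtRing X) V).counit.app K
  have hQ : PO O₂ ((sD (OEtRing X) V).obj ((TD V).obj P)) := PO_sD H hv ⟨P, hP.1, ⟨Iso.refl _⟩⟩
  refine ⟨_, β, hQ, ?_⟩
  have hu := isIso_unit H hv
  have hβ' : (rD (OEtRing X) V).map β = inv ((adjSR (OEtRing X) V).unit.app ((TD V).obj P)) ≫ γ' :=
    rD_map_hat γ'
  obtain ⟨Z, p, q, hZ⟩ := distinguished_cocone_triangle β
  refine (pcd_iff hZ).2 (lt_of_local H ?_ ?_ ?_)
  · exact (suppP O₂ (OEtRing X)).ext_of_isTriangulatedClosed₃ _ hZ hQ.1 hK.1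
  · refine Lt.obj₃ ((lD O₁ (OEtRing X)).map_distinguished _ hZ) ?_ (hKm.mono (by lia))
    exact lt_of_isZero (isZero_lD_sD O₁ hv)
  · refine (pcd_iff ((rD (OEtRing X) V).map_distinguished _ hZ)).1 ?_
    change PCD m ((rD (OEtRing X) V).map β)
    rw [hβ']
    exact pcd_comp (pcd_of_isIso m _) hγ'

end elem

end aff

end K294.MapLift
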