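import Groth.Agent.AlgSp.K294.TorsVan
import Groth.Agent.DRing.K231.LiftPerf

/-!
# Lifting of perfect objects along elementary squares
-/

set_option autoImplicit false
set_option linter.unusedSectionVars false
universe u

open CategoryTheory CategoryTheory.Limits Opposite Pretriangulated AlgebraicGeometry

attribute [local instance] HasDerivedCategory.standard

namespace K294.ObjLift
open K645.Ex K645.Lam K645.Shriek K645.Square K290.DId K290.DIdem Groth.Agent.PerfA.ExactD K294.MapExt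
  Groth.Agent.PerfA.PCMap K294.AppAbs K294.GlueOn K294.MapLift K294.Step

section general

variable {C : Type (u + 1)} [Category.{u} C] {J : GrothendieckTopology C} {R : Sheaf J RingCat.{u + 1}}
  {V : C} {U W : Opn C}
  [HasSheafify J AddCommGrpCat.{u + 1}] [J.WEqualsLocallyBijective AddCommGrpCat.{u + 1}]

/-- Gluing of an object on `U` and an object on `V`. -/
theorem exists_glue (H : Elem J V U W) {F : DR R} (hF : suppP U R F) (T : DR (R.over V))
    (σ : (lD (ovr U V) (R.over V)).obj T ≅ (rD R V).obj F) :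
    ∃ G : DR R, suppP W R G ∧ Nonempty ((lD U R).obj G ≅ F) ∧ Nonempty (T ≅ (rD R V).obj G) := by
  obtain ⟨Z, p, q, hZ⟩ := distinguished_cocone_triangle ((iD (ovr U V) (R.over V)).app T)
  have hv : vanP (ovr U V) (R.over V) Z := vanP_cone hZ
  have hu := isIso_unit H hv
  let w : (sD R V).obj Z ⟶ F⟦(1 : ℤ)⟧ := ((adjSR R V).homEquiv Z (F⟦(1 : ℤ)⟧)).symm
    (q ≫ (σ.hom)⟦(1 : ℤ)⟧' ≫ ((rD R V).commShiftIso (1 : ℤ)).inv.app F)
  have hw : (adjSR R V).unit.app Z ≫ (rD R V).map w =
      q ≫ (σ.hom)⟦(1 : ℤ)⟧' ≫ ((rD R V).commShiftIso (1 : ℤ)).inv.app F :=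
    ((adjSR R V).homEquiv_unit Z (F⟦(1 : ℤ)⟧) w).symm.trans (Equiv.apply_symm_apply _ _)
  obtain ⟨G, f, g, hG⟩ := distinguished_cocone_triangle₂ w
  have hv' : vanP U R ((sD R V).obj Z) := isZero_lD_sD U hv
  have hFW : suppP W R F := isIso_iD_mono H.le hF
  refine ⟨G, (suppP W R).ext_of_isTriangulatedClosed₂ _ hG hFW (isIso_iD_W H Z), ?_, ?_⟩
  · have h1 : IsIso ((lD U R).map f) :=
      (Triangle.isZero₃_iff_isIso₁ _ ((lD U R).map_distinguished _ hG)).1 hv'
    have h2 : IsIso ((iD U R).app F) := hF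
    exact ⟨(asIso ((lD U R).map f)).symm ≪≫ asIso ((iD U R).app F)⟩
  · have hG' : Triangle.mk ((rD R V).map f) ((rD R V).map g)
      ((rD R V).map w ≫ ((rD R V).commShiftIso (1 : ℤ)).hom.app F) ∈ distTriang _ :=
      (rD R V).map_distinguished _ hG
    have hc : q ≫ (σ.hom)⟦(1 : ℤ)⟧' = (adjSR R V).unit.app Z ≫
        ((rD R V).map w ≫ ((rD R V).commShiftIso (1 : ℤ)).hom.app F) := by
      rw [← Category.assoc, hw, Category.assoc, Category.assoc, ← NatTrans.comp_app, Iso.inv_hom_id]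
      exact congrArg (fun k => q ≫ k) (Category.comp_id _).symm
    obtain ⟨θ, h1, h2⟩ := complete_distinguished_triangle_morphism₂ _ _ hZ hG' σ.hom
      ((adjSR R V).unit.app Z) hc
    have hθ : @IsIso (DR (R.over V)) _ T _ θ := isIso₂_of_isIso₁₃ (Triangle.homMk (Triangle.mk ((iD (ovr U V) (R.over V)).app T) p q)
      (Triangle.mk ((rD R V).map f) ((rD R V).map g)
        ((rD R V).map w ≫ ((rD R V).commShiftIso (1 : ℤ)).hom.app F)) σ.hom θ
      ((adjSR R V).unit.app Z) h1 h2 hc) hZ hG' (inferInstanceAs (IsIso σ.hom)) hu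
    exact ⟨@asIso (DR (R.over V)) _ T _ θ hθ⟩

/-- A morphism between objects supported in `U` which is an isomorphism on `U`. -/
theorem isIso_of_suppP {K L : DR R} (hK : suppP U R K) (hL : suppP U R L) (f : K ⟶ L)
    [IsIso ((lD U R).map f)] : IsIso f := by
  have h1 : IsIso ((iD U R).app K) := hK
  have h2 : IsIso ((iD U R).app L) := hL
  have h3 : f = inv ((iD U R).app K) ≫ (lD U R).map f ≫ (iD U R).app L := by
    rw [IsIso.eq_inv_comp]
    exact (lD_map_iD U f).symm
  rw [h3]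
  infer_instance

/-- Restriction of `j_! j^* M ⟶ M` to an object of the open. -/
theorem isIso_gst_inc {V' : C} (g : V' ⟶ V) {W' : Opn (Over V)} (hg : W'.mem (Over.mk g))
    (M : SheafOfModules.{u + 1} (R.over V)) : IsIso ((gst R g).map (inc W' M)) := by
  refine isIso_of_local _ (fun Y x hx => ?_) (fun Y y => ?_)
  · exact ap_inc_injective W' M ((Over.map g).obj Y)
      (hx.trans (map_zero (ap (inc W' M) ((Over.map g).obj Y))).symm)
  · refine ⟨⊤, (J.over V').top_mem _, fun Y' e _ => ?_⟩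
    have hY : W'.mem ((Over.map g).obj Y') :=
      W'.down (Over.homMk Y'.hom : (Over.map g).obj Y' ⟶ Over.mk g) hg
    obtain ⟨x, hx⟩ := exists_ap_inc W' M ((Over.map g).obj Y') (res ((gst R g).obj M) e y)
      (mem_sub_of_mem W' M hY _)
    exact ⟨x, hx⟩

theorem isIso_gD_iD {V' : C} (g : V' ⟶ V) {W' : Opn (Over V)} (hg : W'.mem (Over.mk g)) (K : DR (R.over V)) :
    IsIso ((gst R g).mapDerivedCategory.map ((iD W' (R.over V)).app K)) := by
  rw [isIso_map_toId_app_iff]
  intro n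
  exact isIso_gst_inc g hg _

end general

/-- Additive functors commuting with shifts and `X ⊞ X[1]`. -/
noncomputable def biprodShiftIso {D D' : Type*} [Category D] [Category D'] [Preadditive D] [Preadditive D']
    [HasBinaryBiproducts D] [HasBinaryBiproducts D'] [HasShift D ℤ] [HasShift D' ℤ] (F : D ⥤ D') [F.Additive]
    [F.CommShift ℤ] (X : D) : F.obj (X ⊞ X⟦(1 : ℤ)⟧) ≅ F.obj X ⊞ (F.obj X)⟦(1 : ℤ)⟧ :=
  haveI := preservesBinaryBiproducts_of_preservesBiproducts F
  F.mapBiprod _ _ ≪≫ biprod.mapIso (Iso.refl _) ((F.commShiftIso (1 : ℤ)).app X)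

section ring

open Groth.Agent.PerfB

theorem isPerfect_comp {A B C : Type u} [CommRing A] [CommRing B] [CommRing C] (φ : A →+* B) (ψ : B →+* C)
    (θ : A →+* C) (h : θ = ψ.comp φ) [PreservesFiniteLimits (ModuleCat.extendScalars.{u, u, u} φ)]
    [PreservesFiniteLimits (ModuleCat.extendScalars.{u, u, u} ψ)]
    [PreservesFiniteLimits (ModuleCat.extendScalars.{u, u, u} θ)] (K : Dual.D A)
    (hK : DRing.IsPerfect B ((ModuleCat.extendScalars.{u, u, u} φ).mapDerivedCategory.obj K)) :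
    DRing.IsPerfect C ((ModuleCat.extendScalars.{u, u, u} θ).mapDerivedCategory.obj K) := by
  subst h
  exact DescPerf.perfect_of_iso ((mapDComp (F := ModuleCat.extendScalars.{u, u, u} φ)
    (G := ModuleCat.extendScalars.{u, u, u} ψ) (H := ModuleCat.extendScalars.{u, u, u} (ψ.comp φ))
    (ModuleCat.extendScalarsComp φ ψ).symm).app K) (DescPerf.perfect_baseChange ψ hK)

theorem isPerfect_away {A B : Type u} [CommRing A] [CommRing B] (φ : A →+* B)
    [PreservesFiniteLimits (ModuleCat.extendScalars.{u, u, u} φ)] (f : A)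
    (hloc : @IsLocalization.Away _ _ f B _ φ.toAlgebra) (K : DRing.Cx A)
    (hK : DRing.IsPerfect B ((ModuleCat.extendScalars.{u, u, u} φ).mapDerivedCategory.obj (DRing.toD K))) :
    DRing.IsPerfect (Localization.Away f) (DRing.toD (((ModuleCat.extendScalars.{u, u, u}
      (algebraMap A (Localization.Away f))).mapHomologicalComplex (ComplexShape.up ℤ)).obj K)) := by
  let _ := φ.toAlgebra
  let e : B ≃ₐ[A] Localization.Away f := IsLocalization.algEquiv (Submonoid.powers f) _ _
  have hψ : (e : B →+* Localization.Away f).Flat := RingHom.Flat.of_bijective e.bijective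
  have hθ : (algebraMap A (Localization.Away f)).Flat := by
    rw [RingHom.flat_algebraMap_iff]
    exact IsLocalization.flat _ (Submonoid.powers f)
  have i1 := ModuleCat.preservesFiniteLimits_extendScalars_of_flat hψ
  have i2 := ModuleCat.preservesFiniteLimits_extendScalars_of_flat hθ
  have h1 := isPerfect_comp φ (e : B →+* Localization.Away f) (algebraMap A (Localization.Away f))
    (RingHom.ext fun a => (e.commutes a).symm) (DRing.toD K) hK
  exact DescPerf.perfect_of_iso ((ModuleCat.extendScalars.{u, u, u}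
    (algebraMap A (Localization.Away f))).mapDerivedCategoryFactors.app K) h1

theorem away_ulift {A B : Type u} [CommRing A] [CommRing B] (φ : A →+* B) (f : A)
    (h : @IsLocalization.Away A _ f B _ φ.toAlgebra) :
    @IsLocalization.Away (ULift.{u + 1} A) _ (ULift.up f) (ULift.{u + 1} B) _
      ((ULift.ringEquiv.symm.toRingHom.comp (φ.comp ULift.ringEquiv.toRingHom)).toAlgebra) := by
  let _ := φ.toAlgebra
  let e : A ≃+* ULift.{u + 1} A := ULift.ringEquiv.symm
  let a1 : Algebra (ULift.{u + 1} A) B := ((algebraMap A B).comp e.symm.toRingHom).toAlgebra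
  let a2 : Algebra (ULift.{u + 1} A) (ULift.{u + 1} B) :=
    (ULift.ringEquiv.symm.toRingHom.comp (φ.comp ULift.ringEquiv.toRingHom)).toAlgebra
  have h1 : IsLocalization ((Submonoid.powers f).map e) B :=
    IsLocalization.isLocalization_of_base_ringEquiv (Submonoid.powers f) B e
  have h2 : (Submonoid.powers f).map e = Submonoid.powers (ULift.up f : ULift.{u + 1} A) :=
    Submonoid.map_powers _ _
  rw [h2] at h1
  exact IsLocalization.isLocalization_of_algEquiv _
    (AlgEquiv.ofRingEquiv (f := ULift.ringEquiv.symm) (fun _ => rfl) : B ≃ₐ[ULift.{u + 1} A] ULift.{u + 1} B)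

end ring

section main

open AlgSp K646.EtSite K645.TE K645.BC K645.Int K290.ElemSq K290.Thick K294.PcInt K294.AppRing
  Groth.Agent.PerfC.KosFactor

variable {S : Scheme.{u}} {X : AlgSp.Sp S}

/-- `j_! j^* M ⟶ Y`, `M` quasi-coherent on an affine object, are represented by an object of the derived category of
modules. -/
def PsiAt (V : EtOver X) [IsAffine V.obj.left.left] (W' : Opn (Over V)) (Y : DR ((OEtRing X).over V)) : Prop :=
  ∃ (K : Dual.D (B V)) (ε : (lD W' ((OEtRing X).over V)).obj ((TD V).obj K) ⟶ Y),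
    IsIso ((lD W' ((OEtRing X).over V)).map ε) ∧
    ∀ (M : Dual.D (B V)) (a : (lD W' ((OEtRing X).over V)).obj ((TD V).obj M) ⟶ Y),
      ∃ a' : M ⟶ K, (lD W' ((OEtRing X).over V)).map ((TD V).map a') ≫ ε = a

theorem hasPsi_of_psiAt {V : EtOver X} [IsAffine V.obj.left.left] {W' : Opn (Over V)}
    (h : ∀ N : Dual.D (B V), PsiAt V W' ((TD V).obj N)) : HasPsi V W' := by
  intro N
  obtain ⟨R, ε, h1, h2⟩ := h N
  obtain ⟨η, hη⟩ := h2 N ((iD W' ((OEtRing X).over V)).app ((TD V).obj N))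
  refine ⟨R, η, ε, ?_, hη, h2⟩
  let L := lD W' ((OEtRing X).over V)
  have i1 : IsIso (L.map ((iD W' ((OEtRing X).over V)).app ((TD V).obj N))) := isIso_lD_map_iD_self _
  have i2 : IsIso (L.map (L.map ((TD V).map η))) := by
    have h3 : L.map (L.map ((TD V).map η)) ≫ L.map ε = L.map ((iD W' ((OEtRing X).over V)).app ((TD V).obj N)) := by
      rw [← Functor.map_comp, hη]
    have h4 : L.map (L.map ((TD V).map η)) =
        L.map ((iD W' ((OEtRing X).over V)).app ((TD V).obj N)) ≫ inv (L.map ε) := by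
      rw [← h3, Category.assoc, IsIso.hom_inv_id, Category.comp_id]
    rw [h4]
    exact inferInstance
  exact isIso_of_suppP (isIso_iD_lD_self _) (isIso_iD_lD_self _) _

/-- **Lifting of perfect objects along an elementary square.** -/
theorem hasLift (V : EtOver X) [hV : IsAffine V.obj.left.left] (O₁ : Set (Points X)) {O₂ : Opn (EtOver X)}
    (l : List Γ(sch V, ⊤)) (hl : Points.ofPt V.obj.hom ⁻¹' O₁ = (OL l : Set ↥(sch V)))
    (H : Elem (etTop X) V (K290.ElemSq.opn O₁) O₂)
    (hPsi : ∀ G : DModEt X, PO (K290.ElemSq.opn O₁) G →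
      PsiAt V (ovr (K290.ElemSq.opn O₁) V) ((rD (OEtRing X) V).obj G)) :
    HasLift (K290.ElemSq.opn O₁) O₂ := by
  intro G hG
  obtain ⟨K, ε, h1, -⟩ := hPsi G hG
  have hε : IsIso ε := isIso_of_suppP (isIso_iD_lD_self _) (isIso_iD_rD (K290.ElemSq.opn O₁) hG.1) ε
  let K' := DerivedCategory.Q.objPreimage K
  let eK : DRing.toD K' ≅ K := DerivedCategory.Q.objObjPreimageIso K
  let f : Fin l.length → B V := fun i => ULift.up (l.get i)
  have hVs : IsAffine (sch V) := hV
  have hK : ∀ i, DRing.IsPerfect (Localization.Away (f i)) (DRing.toD (((ModuleCat.extendScalars.{u + 1, u + 1, u + 1}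
      (algebraMap (B V) (Localization.Away (f i)))).mapHomologicalComplex (ComplexShape.up ℤ)).obj K')) := by
    intro i
    let A : (sch V).Opens := (sch V).basicOpen (l.get i)
    have hE : (K290.ElemSq.opn O₁).mem (K646.EtSite.opn V A) := by
      intro x
      have h1 : mor (opnι V A) x ∈ Set.range (mor (opnι V A)) := ⟨x, rfl⟩
      rw [range_opnι] at h1
      have h2 : mor (opnι V A) x ∈ Points.ofPt V.obj.hom ⁻¹' O₁ := by
        rw [hl]
        exact (mem_OL l _).2 ⟨_, List.get_mem l i, h1⟩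
      rw [← K646.MVSq.ofPt_mor (opnι V A) x]
      exact h2
    have hEa : IsAffine (K646.EtSite.opn V A).obj.left.left := (isAffineOpen_top (sch V)).basicOpen (l.get i)
    obtain ⟨M, hM, ⟨e⟩⟩ := hG.2 _ hEa hE
    have i1 := isIso_gD_iD (R := OEtRing X) (opnι V A) (W' := ovr (K290.ElemSq.opn O₁) V) hE ((TD V).obj K)
    let e1 : (gD (opnι V A)).obj ((lD (ovr (K290.ElemSq.opn O₁) V) ((OEtRing X).over V)).obj ((TD V).obj K)) ≅
        (gD (opnι V A)).obj ((TD V).obj K) := asIso ((gst (OEtRing X) (opnι V A)).mapDerivedCategory.map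
          ((iD (ovr (K290.ElemSq.opn O₁) V) ((OEtRing X).over V)).app ((TD V).obj K)))
    let e2 : (TD (K646.EtSite.opn V A)).obj ((eD (opnι V A)).obj K) ≅ (TD (K646.EtSite.opn V A)).obj M :=
      (egD (opnι V A)).app K ≪≫ e1.symm ≪≫ (gD (opnι V A)).mapIso (asIso ε) ≪≫ (rgD (opnι V A)).app G ≪≫ e.symm
    have h3 : DRing.IsPerfect (B (K646.EtSite.opn V A)) ((eD (opnι V A)).obj (DRing.toD K')) :=
      Groth.Agent.PerfB.DescPerf.perfect_of_iso ((eD (opnι V A)).mapIso eK ≪≫
        (TD (K646.EtSite.opn V A)).preimageIso e2).symm hM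
    exact isPerfect_away (phi (opnι V A)) (f i)
      (away_ulift _ _ (K294.TorsVan.isLocalization_ι_appTop (l.get i))) K' h3
  obtain ⟨N, C, φ, g', h', hN, hT, htors⟩ := K231.LiftPerf.exists_lift f K' hK
  have hTI := K294.TorsVan.torsIff V O₁ l hl
  let L := lD (ovr (K290.ElemSq.opn O₁) V) ((OEtRing X).over V)
  have hv : vanP (ovr (K290.ElemSq.opn O₁) V) ((OEtRing X).over V) ((TD V).obj C) := by
    refine (hTI.vanP_iff C).2 fun f₁ hf₁ i x => ?_
    obtain ⟨f₀, hf₀, rfl⟩ := List.mem_map.1 hf₁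
    obtain ⟨j, rfl⟩ := List.mem_iff_get.1 hf₀
    exact htors j i x
  have hφ : IsIso (L.map ((TD V).map φ)) := (Triangle.isZero₃_iff_isIso₁ _
    (L.map_distinguished _ ((TD V).map_distinguished _ hT))).1 hv
  let e0 : L.obj ((TD V).obj (DRing.toD K')) ≅ (rD (OEtRing X) V).obj G :=
    L.mapIso ((TD V).mapIso eK) ≪≫ asIso ε
  let σ : L.obj ((TD V).obj N) ≅ (rD (OEtRing X) V).obj (G ⊞ G⟦(1 : ℤ)⟧) :=
    asIso (L.map ((TD V).map φ)) ≪≫ L.mapIso (biprodShiftIso (TD V) _) ≪≫ biprodShiftIso L _ ≪≫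
      biprod.mapIso e0 ((shiftFunctor _ (1 : ℤ)).mapIso e0) ≪≫ (biprodShiftIso (rD (OEtRing X) V) G).symm
  have hGG : PO (K290.ElemSq.opn O₁) (G ⊞ G⟦(1 : ℤ)⟧) :=
    (PO (K290.ElemSq.opn O₁)).ext_of_isTriangulatedClosed₂ _ (binaryBiproductTriangle_distinguished _ _) hG
      ((PO (K290.ElemSq.opn O₁)).le_shift 1 _ hG)
  obtain ⟨G', hs, ⟨e1⟩, ⟨e2⟩⟩ := exists_glue H hGG.1 ((TD V).obj N) σ
  refine ⟨G', ⟨hs, perfOn_of_elem H (fun E hE hO => ?_) ⟨N, hN, ⟨e2⟩⟩⟩, ⟨e1⟩⟩
  have h2 := (hGG.2.of_iso e1.symm) E hE hO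
  have := isIso_rD_map_iD hO G'
  exact h2.of_iso (asIso ((rD (OEtRing X) E).map ((iD (K290.ElemSq.opn O₁) (OEtRing X)).app G')))

end main

end K294.ObjLift
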