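import Groth.Agent.AlgSp.K294.PcInt
import Groth.Agent.AlgSp.K648.Noeth
import Groth.Agent.AlgSp.K644.ChartFin
import Groth.Agent.AlgSp.K644.PtCover
import Groth.Agent.AlgSp.K643.ModHom
import Groth.Agent.AlgSp.K609.QC

/-!
# Cohomology sheaves over affine objects and the associated complex of modules
-/

set_option autoImplicit false

universe u

open CategoryTheory CategoryTheory.Limits AlgebraicGeometry Opposite

attribute [local instance] HasDerivedCategory.standard

namespace K294.PcNoeth

open K645.TE K645.BC K645.SPerf K645.Int K294.PcInt Groth.Agent.PerfA.ExactD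

variable {S : Scheme.{u}} {X : AlgSp.Sp S}

section one

variable {K : AlgSp.DModEt X} {E : AlgSp.EtOver X} [hE : IsAffine E.obj.left.left] {M : Dual.D (B E)}
  (e : (TD E).obj M ≅ (AlgSp.resDEt E).obj K) (i : ℤ)

/-- `H^i(M)~ ≅ H^i(K)|_E`. -/
noncomputable def hIso : (tE E).obj ((DerivedCategory.homologyFunctor _ i).obj M) ≅
    (DCoh.HDMod (AlgSp.OEtRing X) K i).over E :=
  ((mapHomology (tE E) i).app M).symm ≪≫ (DerivedCategory.homologyFunctor _ i).mapIso e ≪≫
    (mapHomology (AlgSp.resModEt E) i).app K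

/-- `N ≅ Γ(E, N~)`. -/
noncomputable def unitIso (N : ModuleCat.{u + 1} (B E)) : N ≅ (sE E).obj ((tE E).obj N) :=
  have : IsIso (adjE E).unit := K645.Tilde.isIso_unit (T := K644.Slice.oT (AlgSp.EtOver.toScheme X) E)
    (R := AlgSp.OEtOn E) Over.mkIdTerminal hE
  (asIso (adjE E).unit).app N

theorem isZero_iff (N : ModuleCat.{u + 1} (B E)) : IsZero ((tE E).obj N) ↔ IsZero N :=
  ⟨fun h => ((sE E).map_isZero h).of_iso (unitIso N), fun h => (tE E).map_isZero h⟩

include e in
theorem isZero_homology_iff : IsZero ((DerivedCategory.homologyFunctor _ i).obj M) ↔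
    IsZero ((DCoh.HDMod (AlgSp.OEtRing X) K i).over E) := by
  rw [← isZero_iff]
  exact ⟨fun h => h.of_iso (hIso e i).symm, fun h => h.of_iso (hIso e i)⟩

/-- `H^i(M) ≅ Γ(E, H^i(K))`. -/
noncomputable def secIso : (DerivedCategory.homologyFunctor _ i).obj M ≅
    (sE E).obj ((DCoh.HDMod (AlgSp.OEtRing X) K i).over E) :=
  unitIso _ ≪≫ (sE E).mapIso (hIso e i)

open scoped K644.Chart

omit hE in
theorem finite_sE_iff (F : AlgSp.ModEt X) : Module.Finite (B E) ((sE E).obj (F.over E)) ↔
    Module.Finite Γ(E.obj.left.left, ⊤) (F.val.presheaf.obj (op E)) := by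
  let φ : B E ≃+* Γ(E.obj.left.left, ⊤) := ULift.ringEquiv
  constructor
  · intro h
    obtain ⟨⟨s, hs⟩⟩ := h
    refine ⟨⟨s, ?_⟩⟩
    rw [eq_top_iff]
    intro x _
    have hx : x ∈ Submodule.span (B E) (s : Set ((sE E).obj (F.over E))) := by
      rw [hs]
      trivial
    induction hx using Submodule.span_induction with
    | mem y hy => exact Submodule.subset_span hy
    | zero => exact Submodule.zero_mem _
    | add a b _ _ ha hb => exact Submodule.add_mem _ (ha trivial) (hb trivial)
    | smul r a _ ha => exact Submodule.smul_mem _ (φ r) (ha trivial)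
  · intro h
    obtain ⟨⟨s, hs⟩⟩ := h
    refine ⟨⟨s, ?_⟩⟩
    rw [eq_top_iff]
    intro x _
    have hx : x ∈ Submodule.span Γ(E.obj.left.left, ⊤) (s : Set (F.val.presheaf.obj (op E))) := by
      rw [hs]
      trivial
    induction hx using Submodule.span_induction with
    | mem y hy => exact Submodule.subset_span hy
    | zero => exact Submodule.zero_mem _
    | add a b _ _ ha hb => exact Submodule.add_mem _ (ha trivial) (hb trivial)
    | smul r a _ ha => exact Submodule.smul_mem _ (φ.symm r) (ha trivial)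

include e in
theorem finite_iff : Module.Finite (B E) (Dual.HD (B E) M i) ↔
    Module.Finite Γ(E.obj.left.left, ⊤) ((DCoh.HDMod (AlgSp.OEtRing X) K i).val.presheaf.obj (op E)) := by
  rw [← finite_sE_iff]
  exact ⟨fun h => @Module.Finite.equiv _ _ _ _ _ _ _ _ h (secIso e i).toLinearEquiv,
    fun h => @Module.Finite.equiv _ _ _ _ _ _ _ _ h (secIso e i).toLinearEquiv.symm⟩

end one

theorem isZero_of_over {F : AlgSp.ModEt X} {κ : Type (u + 1)} {Y : κ → AlgSp.EtOver X}
    (hY : (AlgSp.etTop X).CoversTop Y) (h : ∀ k, IsZero (F.over (Y k))) : IsZero F := by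
  rw [IsZero.iff_id_eq_zero]
  exact K643.ModHom.hom_ext_over.{u + 1} (R := AlgSp.OEtRing X) (G := F) (M := F) hY _ _
    fun k => (h k).eq_of_src _ _

end K294.PcNoeth
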