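import Groth.Agent.AlgSp.K294.MapLift
import Groth.Agent.PerfA.ApproxTower
import Groth.Agent.PerfA.ModNat

/-!
# Approximation by perfect complexes on algebraic spaces: the induction
-/

set_option autoImplicit false
set_option linter.unusedSectionVars false
universe u

open CategoryTheory CategoryTheory.Limits Opposite Pretriangulated AlgebraicGeometry

attribute [local instance] HasDerivedCategory.standard

namespace K294.Step
open K645.Ex K645.Lam K645.Shriek K645.Square K290.DId K290.DIdem Groth.Agent.PerfA.ExactD K294.MapExt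
  Groth.Agent.PerfA.PCMap K294.AppAbs K294.GlueOn K294.MapLift

section general

variable {A : Type (u + 2)} [Category.{u + 1} A] [Abelian A]

theorem lt_shift {K : DerivedCategory A} {m : ℤ} (n m' : ℤ) (h : Lt m K) (hm : m ≤ m' + n) : Lt m' (K⟦n⟧) := by
  intro i hi
  have e : (DerivedCategory.homologyFunctor A i).obj (K⟦n⟧) ≅ (DerivedCategory.homologyFunctor A (n + i)).obj K :=
    ((DerivedCategory.homologyFunctor A 0).shiftIso n i (n + i) rfl).app K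
  exact (h (n + i) (by lia)).of_iso e

/-- The first projection of `G ⊞ G[1]`. -/
theorem pcd_fst {G : DerivedCategory A} {t : ℤ} (h : Lt (t + 2) G) :
    PCD t (biprod.fst : G ⊞ G⟦(1 : ℤ)⟧ ⟶ G) := by
  have h1 : PCD t (biprod.snd : G⟦(1 : ℤ)⟧ ⊞ G ⟶ G) := by
    have h2 := rot_of_distTriang _ (binaryBiproductTriangle_distinguished (G⟦(1 : ℤ)⟧) G)
    refine (pcd_iff h2).2 ?_
    change Lt t ((G⟦(1 : ℤ)⟧)⟦(1 : ℤ)⟧)
    exact lt_shift 1 t (lt_shift 1 (t + 1) h (by lia)) le_rfl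
  have h3 : (biprod.fst : G ⊞ G⟦(1 : ℤ)⟧ ⟶ G) = (biprod.braiding G (G⟦(1 : ℤ)⟧)).hom ≫ biprod.snd := by simp
  rw [h3]
  exact pcd_comp (pcd_of_isIso t _) h1

end general

section step

open AlgSp K646.EtSite K645.TE K645.Int K290.ElemSq K294.PcInt K294.AppRing Groth.Agent.PerfC.KosFactor

variable {S : Scheme.{u}} {X : AlgSp.Sp S} {V : EtOver X} [hVa : IsAffine V.obj.left.left] {l : List (B V)}
  {O₁ O₂ : Opn (EtOver X)}

/-- Lifting of perfect objects from `O₁` to `O₂`. -/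
def HasLift (O₁ O₂ : Opn (EtOver X)) : Prop :=
  ∀ G : DModEt X, PO O₁ G → ∃ G' : DModEt X, PO O₂ G' ∧
    Nonempty ((lD O₁ (OEtRing X)).obj G' ≅ G ⊞ G⟦(1 : ℤ)⟧)

theorem exists_lt_of_elem (H : Elem (etTop X) V O₁ O₂) (hle : ∀ E, O₁.mem E → O₂.mem E)
    (B₁ : ∀ K, PsO O₁ K → ∃ b : ℤ, Lt b K) (K : DModEt X) (hK : PsO O₂ K) : ∃ b : ℤ, Lt b K := by
  obtain ⟨b, hb⟩ := B₁ _ (PsO_lD hle hK)
  obtain ⟨M, hM, ⟨e⟩⟩ := hK.2 V hVa H.memV 0
  obtain ⟨c, hc⟩ := Groth.Agent.CalgB.PsCohGen.PC.exists_isLE (P := Groth.Agent.CalgB.PsCoh.ffree (B V)) hM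
  have h1 : Lt (c + 1) M := (isLE_iff_lt _ _).1 hc
  have h2 : Lt (c + 1) ((TD V).obj M) := fun i hi =>
    ((tE V).map_isZero (h1 i hi)).of_iso ((mapHomology (tE V) i).app M)
  have h3 : Lt (c + 1) ((rD (OEtRing X) V).obj K) := h2.of_iso e
  exact ⟨max b (c + 1), lt_of_local H hK.1 (hb.mono (le_max_left _ _)) (h3.mono (le_max_right _ _))⟩

theorem app_step (H : Elem (etTop X) V O₁ O₂) (hle : ∀ E, O₁.mem E → O₂.mem E)
    (hT : TorsIff V (ovr O₁ V) l) (hPsi : HasPsi V (ovr O₁ V)) (hL : HasLift O₁ O₂)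
    (P₁ : ∀ K, PsO O₁ K → ∀ m, App (PO O₁) K m) (m : ℤ) (n : ℕ) :
    ∀ K : DModEt X, PsO O₂ K → Lt (m - l.length + n) ((lD O₁ (OEtRing X)).obj K) → App (PO O₂) K m := by
  induction n with
  | zero =>
    intro K hK h
    exact app_base H hT hK (h.mono (by simp))
  | succ n ih =>
    intro K hK h
    obtain ⟨G, α, hG, hα⟩ := P₁ _ (PsO_lD hle hK) (m - l.length + n)
    obtain ⟨G', hG', ⟨e⟩⟩ := hL G hG
    have hGt : Lt (m - l.length + n + 1) G := fun i hi => by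
      have := hα.1 i (by lia)
      exact (h i (by push_cast; lia)).of_iso (asIso ((DerivedCategory.homologyFunctor _ i).map α))
    let a₀ : (lD O₁ (OEtRing X)).obj G' ⟶ (lD O₁ (OEtRing X)).obj K := e.hom ≫ biprod.fst ≫ α
    have ha₀ : PCD (m - l.length + n) a₀ :=
      pcd_comp (pcd_of_isIso _ _) (pcd_comp (pcd_fst (hGt.mono (by lia))) hα)
    obtain ⟨M, -, ⟨eM⟩⟩ := hK.2 V hVa H.memV 0
    obtain ⟨Q, q, β, hQ, hq, hβ⟩ := exists_lift_perf H hT hPsi hG' ⟨M, ⟨eM⟩⟩ (a₀ ≫ (iD O₁ (OEtRing X)).app K)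
    obtain ⟨K', p, r, hK'⟩ := distinguished_cocone_triangle β
    refine App.of_cone hK' hQ (ih K' ?_ ?_)
    · exact (PsO O₂).ext_of_isTriangulatedClosed₃ _ hK' (PO_le_PsO O₂ _ hQ) hK
    · refine (pcd_iff ((lD O₁ (OEtRing X)).map_distinguished _ hK')).1 ?_
      change PCD _ ((lD O₁ (OEtRing X)).map β)
      have i1 : IsIso ((lD O₁ (OEtRing X)).map ((iD O₁ (OEtRing X)).app Q)) := isIso_lD_map_iD_self Q
      have i2 : IsIso ((lD O₁ (OEtRing X)).map ((iD O₁ (OEtRing X)).app K)) := isIso_lD_map_iD_self K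
      have h1 : (lD O₁ (OEtRing X)).map β = inv ((lD O₁ (OEtRing X)).map ((iD O₁ (OEtRing X)).app Q)) ≫
          (lD O₁ (OEtRing X)).map ((lD O₁ (OEtRing X)).map q) ≫ (lD O₁ (OEtRing X)).map a₀ ≫
            (lD O₁ (OEtRing X)).map ((iD O₁ (OEtRing X)).app K) := by
        rw [IsIso.eq_inv_comp, ← Functor.map_comp, ← Functor.map_comp, ← hβ, ← Functor.map_comp]
      rw [h1]
      exact pcd_comp (pcd_of_isIso _ _) (pcd_comp (pcd_of_isIso _ _)
        (pcd_comp (PCD.map (lam O₁ (OEtRing X)) ha₀) (pcd_of_isIso _ _)))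

theorem app_of_elem (H : Elem (etTop X) V O₁ O₂) (hle : ∀ E, O₁.mem E → O₂.mem E)
    (hT : TorsIff V (ovr O₁ V) l) (hPsi : HasPsi V (ovr O₁ V)) (hL : HasLift O₁ O₂)
    (h₁ : (∀ K, PsO O₁ K → ∃ b : ℤ, Lt b K) ∧ ∀ K, PsO O₁ K → ∀ m, App (PO O₁) K m) :
    (∀ K, PsO O₂ K → ∃ b : ℤ, Lt b K) ∧ ∀ K, PsO O₂ K → ∀ m, App (PO O₂) K m := by
  refine ⟨exists_lt_of_elem H hle h₁.1, fun K hK m => ?_⟩
  obtain ⟨b, hb⟩ := h₁.1 _ (PsO_lD hle hK)
  exact app_step H hle hT hPsi hL h₁.2 m (b - (m - l.length)).toNat K hK (hb.mono (by lia))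

end step

end K294.Step
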