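import Groth.Agent.AlgSp.K294.Step

/-!
# Quasi-coherent modules vanishing on a union of basic opens
-/

set_option autoImplicit false
set_option linter.unusedSectionVars false
universe u

open CategoryTheory CategoryTheory.Limits Opposite AlgebraicGeometry

attribute [local instance] HasDerivedCategory.standard

namespace K294.TorsVan

/-- Localization at a global function. -/
theorem isLocalization_ι_appTop {Y : Scheme.{u}} [IsAffine Y] (a : Γ(Y, ⊤)) :
    @IsLocalization.Away _ _ a Γ(Y.basicOpen a, ⊤) _ (Y.basicOpen a).ι.appTop.hom.toAlgebra := by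
  let _ := (Y.basicOpen a).ι.appTop.hom.toAlgebra
  have h1 : IsLocalization.Away a Γ(Y, Y.basicOpen a) := inferInstance
  let e : Γ(Y, Y.basicOpen a) ≃+* Γ(Y.basicOpen a, ⊤) :=
    (Y.basicOpen a).topIso.symm.commRingCatIsoToRingEquiv
  refine IsLocalization.isLocalization_of_algEquiv (Submonoid.powers a)
    (AlgEquiv.ofRingEquiv (f := e) ?_)
  intro x
  change ((Y.presheaf.map (homOfLE (Y.basicOpen_le a)).op ≫ (Y.basicOpen a).topIso.inv).hom x) =
    (Y.basicOpen a).ι.appTop.hom x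
  rw [Scheme.Opens.topIso_inv, Scheme.Opens.ι_appTop]
  have h3 : Y.presheaf.map (homOfLE (Y.basicOpen_le a)).op ≫
      Y.presheaf.map (eqToHom (Y.basicOpen a).ι_image_top).op =
      Y.presheaf.map (homOfLE (x := (Y.basicOpen a).ι ''ᵁ ⊤) (y := ⊤) le_top).op := by
    rw [← Functor.map_comp]
    rfl
  exact congrArg (fun t => CommRingCat.Hom.hom t x) h3

theorem isUnit_appTop {Y Z : Scheme.{u}} [IsAffine Y] (a : Γ(Y, ⊤)) (g : Z ⟶ Y)
    (hg : Set.range g ⊆ (Y.basicOpen a : Set Y)) : IsUnit (g.appTop.hom a) := by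
  have hr : Set.range g ⊆ Set.range (Y.basicOpen a).ι := by
    rw [Scheme.Opens.range_ι]
    exact hg
  have hl : IsOpenImmersion.lift (Y.basicOpen a).ι g hr ≫ (Y.basicOpen a).ι = g :=
    IsOpenImmersion.lift_fac _ _ _
  let _ := (Y.basicOpen a).ι.appTop.hom.toAlgebra
  have h1 : IsLocalization.Away a Γ(Y.basicOpen a, ⊤) := isLocalization_ι_appTop a
  have h2 : IsUnit ((Y.basicOpen a).ι.appTop.hom a) :=
    IsLocalization.Away.algebraMap_isUnit (S := Γ(Y.basicOpen a, ⊤)) a
  have h3 : g.appTop.hom a = (IsOpenImmersion.lift (Y.basicOpen a).ι g hr).appTop.hom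
      ((Y.basicOpen a).ι.appTop.hom a) := by
    conv_lhs => rw [← hl]
    rw [Scheme.Hom.comp_appTop]
    rfl
  rw [h3]
  exact h2.map _

section alg

open Groth.Agent.Etbase.FFExact K644.Alg

variable {A B : Type*} [CommRing A] [CommRing B] {φ : A →+* B} {M M' : Type*} [AddCommGroup M] [Module A M]
  [AddCommGroup M'] [Module B M'] {ψ : M →+ M'}

theorem torsion_of_zero (f : A) (hloc : @IsLocalization.Away _ _ f B _ φ.toAlgebra) (h : IsBC φ ψ) (m : M)
    (hm : ψ m = 0) : ∃ k : ℕ, f ^ k • m = 0 := by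
  obtain ⟨h1, h2⟩ := h
  let _ := φ.toAlgebra
  let _ : Module A M' := Module.compHom M' φ
  have : IsScalarTower A B M' := ⟨fun a b m => by
    change (φ a * b) • m = φ a • b • m
    rw [mul_smul]⟩
  have h3 := (isLocalizedModule_iff_isBaseChange (Submonoid.powers f) B _).2 h2
  obtain ⟨⟨_, k, rfl⟩, hk⟩ := (IsLocalizedModule.eq_zero_iff (Submonoid.powers f)
    ({ toFun := ψ, map_add' := ψ.map_add, map_smul' := h1 } : M →ₗ[A] M')).1 hm
  exact ⟨k, hk⟩

theorem zero_of_torsion (h : IsBC φ ψ) (f : A) (hf : IsUnit (φ f)) (ht : ∀ m : M, ∃ k : ℕ, f ^ k • m = 0)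
    (m' : M') : m' = 0 := by
  have h0 : ∀ m, ψ m = 0 := fun m => by
    obtain ⟨k, hk⟩ := ht m
    have h1 : φ f ^ k • ψ m = 0 := by rw [← map_pow, ← h.choose, hk, map_zero]
    exact ((hf.pow k).smul_eq_zero).1 h1
  have := IsBC.hom_ext h (LinearMap.id) 0 (fun m => (h0 m))
  exact LinearMap.congr_fun this m'

end alg

section site

open K645.Ex K645.Shriek

variable {C : Type (u + 1)} [Category.{u} C] {J : GrothendieckTopology C} {R : Sheaf J RingCat.{u + 1}}
  {V : C}

theorem sec_eq_zero (N : SheafOfModules.{u + 1} (R.over V)) {E : C} (g : E ⟶ V) (n : sec N g) (T : Sieve E)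
    (hT : T ∈ J E) (h : ∀ ⦃E' : C⦄ (e : E' ⟶ E), T e → rs N g e n = 0) : n = 0 := by
  refine section_ext N ((Sieve.overEquiv (Over.mk g)).symm T)
    (J.overEquiv_symm_mem_over (Over.mk g) T hT) _ _ fun X' e he => ?_
  have h1 := h e.left ((Sieve.overEquiv_symm_iff T e).1 he)
  have key : ∀ (g' : X'.left ⟶ V) (hg' : e.left ≫ g = g'),
      N.val.map (Over.homMk e.left hg' : Over.mk g' ⟶ Over.mk g).op n = 0 := by
    intro g' hg'
    subst hg'
    exact h1
  exact (key X'.hom (Over.w e)).trans (map_zero (res N e)).symm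

theorem rs_comp_zero (N : SheafOfModules.{u + 1} (R.over V)) {E E' E'' : C} (g : E ⟶ V) (e : E' ⟶ E)
    (a : E'' ⟶ E') (n : sec N g) (h : rs N g e n = 0) : rs N g (a ≫ e) n = 0 := by
  have h1 : (Over.homMk (a ≫ e) : Over.mk ((a ≫ e) ≫ g) ⟶ Over.mk g) =
      (Over.homMk a (by simp) : Over.mk ((a ≫ e) ≫ g) ⟶ Over.mk (e ≫ g)) ≫
        (Over.homMk e : Over.mk (e ≫ g) ⟶ Over.mk g) := by
    ext
    rfl
  change res N (Over.homMk (a ≫ e) : Over.mk ((a ≫ e) ≫ g) ⟶ Over.mk g) n = 0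
  rw [h1]
  exact (res_comp N _ _ n).trans ((congrArg (res N _) h).trans (map_zero _))

end site

section main

open AlgSp K646.EtSite K645.TE K645.Int K645.Shriek K645.Square K645.Lam K290.ElemSq K290.Thick K294.MapLift

variable {S : Scheme.{u}} {X : AlgSp.Sp S}

/-- The unit on sections. -/
theorem exists_eta (V : EtOver X) [hV : IsAffine V.obj.left.left] (N : ModuleCat.{u + 1} (B V)) :
    ∃ η : N → ((tE V).obj N).val.presheaf.obj (op (Over.mk (𝟙 V))), Function.Bijective η ∧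
      (η 0 = 0) ∧ ∀ (a : Γ(sch V, ⊤)) (n : N), η ((ULift.up a : B V) • n) =
        (show Γ((K644.Slice.oT (AlgSp.EtOver.toScheme X) V).obj (Over.mk (𝟙 V)), ⊤) from a) • η n := by
  refine ⟨fun n => K645.Tilde.eta (R := AlgSp.OEtOn V) Over.mkIdTerminal N n,
    K645.Tilde.bijective_eta (T := K644.Slice.oT (AlgSp.EtOver.toScheme X) V) (R := AlgSp.OEtOn V)
      Over.mkIdTerminal hV N, map_zero (K645.Tilde.eta (R := AlgSp.OEtOn V) Over.mkIdTerminal N),
      fun a n => ?_⟩
  exact (K645.Tilde.eta (R := AlgSp.OEtOn V) Over.mkIdTerminal N).map_smul (ULift.up a) n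

theorem torsIff (V : EtOver X) [hV : IsAffine V.obj.left.left] (O : Set (Points X)) (l : List Γ(sch V, ⊤))
    (hl : Points.ofPt V.obj.hom ⁻¹' O = (OL l : Set ↥(sch V))) :
    TorsIff V (ovr (opn O) V) (l.map ULift.up) := by
  intro N
  let P := (tE V).obj N
  have hQ : K644.Psh.IsQC (K644.Slice.oT (AlgSp.EtOver.toScheme X) V) P.val := isQC_tE V N
  obtain ⟨η, hη, hη0, hηs⟩ := exists_eta V N
  have hpow : ∀ (a : Γ(sch V, ⊤)) (k : ℕ) (n : N), η ((ULift.up a : B V) ^ k • n) =
      (show Γ((K644.Slice.oT (AlgSp.EtOver.toScheme X) V).obj (Over.mk (𝟙 V)), ⊤) from a) ^ k • η n :=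
    fun a k n => hηs (a ^ k) n
  have hVa : IsAffine (sch V) := hV
  rw [van_iff]
  constructor
  · intro h f hf n
    obtain ⟨f₀, hf₀, rfl⟩ := List.mem_map.1 hf
    let A : (sch V).Opens := (sch V).basicOpen f₀
    let g : Over.mk (opnι V A) ⟶ Over.mk (𝟙 V) := Over.homMk (opnι V A)
    have hAff : IsAffine (sch (opn V A)) := (isAffineOpen_top (sch V)).basicOpen f₀
    have hbc := hQ g hAff hV
    have hE : (K290.ElemSq.opn O).mem (opn V A) := by
      intro x
      have h1 : mor (opnι V A) x ∈ Set.range (mor (opnι V A)) := ⟨x, rfl⟩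
      rw [range_opnι] at h1
      have h2 : mor (opnι V A) x ∈ Points.ofPt V.obj.hom ⁻¹' O := by
        rw [hl]
        exact (mem_OL l _).2 ⟨f₀, hf₀, h1⟩
      rw [← K646.MVSq.ofPt_mor (opnι V A) x]
      exact h2
    have h1 := fun f hf m => torsion_of_zero f hf hbc m
    have h2 := h1 f₀ (isLocalization_ι_appTop f₀) (η n)
    obtain ⟨k, hk⟩ := h2 (h hE (opnι V A) _)
    exact ⟨k, hη.1 ((hpow f₀ k n).trans (hk.trans hη0.symm))⟩
  · intro h E hE g n
    obtain ⟨T, hT, hT'⟩ := K290.ElemSq.exists_sieve (fun E' e => rs P g e n = 0)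
      (fun E' E'' e a he => rs_comp_zero P g e a n he) (fun x => by
        have hx : mor g x ∈ Points.ofPt V.obj.hom ⁻¹' O := by
          change Points.ofPt V.obj.hom (mor g x) ∈ O
          rw [K646.MVSq.ofPt_mor g x]
          exact hE x
        rw [hl] at hx
        obtain ⟨f₀, hf₀, hx'⟩ := (mem_OL l _).1 hx
        obtain ⟨W, hW, hxW, hWle⟩ := exists_isAffineOpen_mem_and_subset (X := sch E) (x := x)
          (U := mor g ⁻¹ᵁ (sch V).basicOpen f₀) hx'
        have hAff : IsAffine (sch (opn E W)) := hW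
        have hrange : Set.range (mor (opnι E W ≫ g)) ⊆ ((sch V).basicOpen f₀ : Set ↥(sch V)) := by
          rintro _ ⟨y, rfl⟩
          have h1 : mor (opnι E W) y ∈ Set.range (mor (opnι E W)) := ⟨y, rfl⟩
          rw [range_opnι] at h1
          exact hWle h1
        refine ⟨opn E W, opnι E W, ?_, ?_⟩
        · rw [range_opnι]
          exact hxW
        · let g₁ : Over.mk (opnι E W ≫ g) ⟶ Over.mk (𝟙 V) := Over.homMk (opnι E W ≫ g)
          refine @zero_of_torsion _ _ _ _ _ _ _ _ _ _ _ _ (hQ g₁ hAff hV) f₀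
            (isUnit_appTop f₀ (mor (opnι E W ≫ g)) hrange) ?_ _
          intro m
          obtain ⟨m₀, rfl⟩ := hη.2 m
          obtain ⟨k, hk⟩ := h (ULift.up f₀) (List.mem_map.2 ⟨f₀, hf₀, rfl⟩) m₀
          exact ⟨k, (hpow f₀ k m₀).symm.trans ((congrArg η hk).trans hη0)⟩)
    exact sec_eq_zero P g n T hT hT'

end main

end K294.TorsVan
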